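import Cfsg.Agent.H922.Ore.Base
import Cfsg.Agent.H777.Ore.Base
import Cfsg.Agent.S0384

/-!
# `M₁₂` and `M₁₁`: every element is a commutator and a product of four involutions (helper922)

`M₁₂` is sharply 5-transitive on the dodecad `{0, 1, 2, 3, 4, 6, 8, 9, 12, 13, 16, 18}`; up to conjugation the images of the
points `0, 1, 2, 3, 4` are `1 2 3 4 y`, `1 2 3 0 y`, `1 2 0 4 y`, `1 2 0 3 4`, `1 0 3 2 y`, `1 0 2 3 4` or `0 1 2 3 4`.
-/

set_option autoImplicit false

namespace Cfsg.Agent.H922.Ore

open Cfsg Equiv Cfsg.Agent.SporadicStructure.M12Core Cfsg.Agent.SporadicStructure.DodecadM12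
open Cfsg.Agent.H777.Ore (IsC AllC I4 Inv4)
open scoped Pointwise

/-! ### from `Ok` to the row predicates -/

theorem allC_of_ok {X : Type*} {G : Subgroup (Perm X)} (h : ∀ g ∈ G, Ok G g) : AllC G := by
  intro g
  obtain ⟨a, ha, b, hb, h1⟩ := (h g g.2).comm
  refine ⟨⟨a, ha⟩, ⟨b, hb⟩, Subtype.ext ?_⟩
  show (g : Perm X) = a * b * a⁻¹ * b⁻¹
  rw [← h1]
  group

theorem inv4_of_ok {X : Type*} {G : Subgroup (Perm X)} (h : ∀ g ∈ G, Ok G g) : Inv4 G := by
  intro g
  obtain ⟨s, hs, t, ht, u, hu, v, hv, h1, h2, h3, h4, h5⟩ := (h g g.2).four
  exact ⟨⟨s, hs⟩, ⟨t, ht⟩, ⟨u, hu⟩, ⟨v, hv⟩, Subtype.ext h1, Subtype.ext h2, Subtype.ext h3, Subtype.ext h4,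
    Subtype.ext h5⟩

theorem inv4_congr {G H : Type*} [Group G] [Group H] (e : G ≃* H) (h : Inv4 G) : Inv4 H := by
  intro x
  obtain ⟨a, b, c, d, h1, h2, h3, h4, h5⟩ := h (e.symm x)
  refine ⟨e a, e b, e c, e d, ?_, ?_, ?_, ?_, ?_⟩
  · rw [← map_mul, h1, map_one]
  · rw [← map_mul, h2, map_one]
  · rw [← map_mul, h3, map_one]
  · rw [← map_mul, h4, map_one]
  · rw [← map_mul, ← map_mul, ← map_mul, ← h5, e.apply_symm_apply]

/-! ### the dodecad -/

/-- mask of the dodecad of squares -/
def DD : ℕ := 340831

theorem squareDodecad_fin : Spor.squareDodecad = fin DD := by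
  have h : qmask 0 = DD := by decide +kernel
  unfold Spor.squareDodecad
  rw [← word_qmask 0, support_word, h]

theorem squareDodecad_mem : Spor.squareDodecad ∈ dodecads := by
  refine ⟨⟨qrWord 0, qrWord_mem 0, rfl⟩, ?_⟩
  rw [squareDodecad_fin, card_fin]
  decide +kernel

theorem mem_squareDodecad {p : GolayPt} : p ∈ Spor.squareDodecad ↔ DD.testBit (pos p) = true := by
  rw [squareDodecad_fin, mem_fin]

theorem card_squareDodecad : Spor.squareDodecad.card = 12 := by
  rw [squareDodecad_fin, card_fin]
  decide +kernel

/-- test for membership in `M₁₂` -/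
def mem12 (t : ℕ) : Bool := good t && Nat.beq (act t DD) DD

/-- test for membership in `M₁₁` -/
def mem11 (t : ℕ) : Bool := mem12 t && Nat.beq (dig t 0) 0

theorem Mem12 : Mem Spor.M12 mem12 := by
  refine ⟨fun t ht => ?_, fun t ht => ?_⟩
  · rw [mem12, Bool.and_eq_true] at ht
    exact valid_of_good ht.1
  · rw [mem12, Bool.and_eq_true] at ht
    refine ⟨perm_mem_M24 ht.1, ?_⟩
    show _ ∈ MulAction.stabilizer _ _
    rw [MulAction.mem_stabilizer_iff, squareDodecad_fin, smul_fin (valid_of_good ht.1), Nat.eq_of_beq_eq_true ht.2]

theorem Mem11 : Mem Spor.M11 mem11 := by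
  refine ⟨fun t ht => ?_, fun t ht => ?_⟩
  · rw [mem11, Bool.and_eq_true] at ht
    exact Mem12.valid t ht.1
  · rw [mem11, Bool.and_eq_true] at ht
    refine ⟨Mem12.mem t ht.1, ?_⟩
    show _ ∈ MulAction.stabilizer _ _
    rw [MulAction.mem_stabilizer_iff]
    apply pos_injective
    show pos (perm t (some 0)) = _
    rw [pos_perm (Mem12.valid t ht.1)]
    exact Nat.eq_of_beq_eq_true ht.2

theorem inv_dd {g : Perm GolayPt} (hg : g ∈ Spor.M12) {p : GolayPt} (hp : p ∈ Spor.squareDodecad) :
    g p ∈ Spor.squareDodecad := by
  have h1 : g • Spor.squareDodecad = Spor.squareDodecad := hg.2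
  rw [← h1]
  exact Finset.mem_smul_finset.2 ⟨p, hp, rfl⟩

theorem ofPos_mem {n : ℕ} (hn : n < 24) (h : DD.testBit n = true) : ofPos n ∈ Spor.squareDodecad := by
  rw [mem_squareDodecad, pos_ofPos hn]
  exact h

theorem b_mem (i : Fin 5) : ofPos i ∈ Spor.squareDodecad := by
  apply ofPos_mem (by omega)
  revert i
  decide +kernel

theorem b_inj : Function.Injective fun i : Fin 5 => ofPos i := by
  intro i j h
  have := congrArg pos h
  simp only at this
  rw [pos_ofPos (by omega), pos_ofPos (by omega)] at this
  exact Fin.ext this

theorem eq_of_fix {g h : Perm GolayPt} (hg : g ∈ Spor.M12) (hh : h ∈ Spor.M12)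
    (he : ∀ i : Fin 5, g (ofPos i) = h (ofPos i)) : g = h := by
  obtain ⟨k, -, hk⟩ := exists_unique_dodecad_map Spor.squareDodecad Spor.squareDodecad squareDodecad_mem
    squareDodecad_mem (fun i => ofPos i) (fun i => g (ofPos i)) b_inj (g.injective.comp b_inj) b_mem
    (fun i => inv_dd hg (b_mem i))
  rw [hk g ⟨hg.1, hg.2, fun i => rfl⟩, hk h ⟨hh.1, hh.2, fun i => (he i).symm⟩]

theorem tr12 {x0 x1 x2 x3 x4 : GolayPt} (h : [x0, x1, x2, x3, x4].Nodup) (h0 : x0 ∈ Spor.squareDodecad)
    (h1 : x1 ∈ Spor.squareDodecad) (h2 : x2 ∈ Spor.squareDodecad) (h3 : x3 ∈ Spor.squareDodecad)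
    (h4 : x4 ∈ Spor.squareDodecad) : ∃ c ∈ Spor.M12, c x0 = ofPos 0 ∧ c x1 = ofPos 1 ∧ c x2 = ofPos 2 ∧
      c x3 = ofPos 3 ∧ c x4 = ofPos 4 := by
  have hi : Function.Injective ![x0, x1, x2, x3, x4] := by
    rw [← List.nodup_ofFn]
    exact h
  obtain ⟨c, ⟨hc, hcd, hcx⟩, -⟩ := exists_unique_dodecad_map Spor.squareDodecad Spor.squareDodecad squareDodecad_mem
    squareDodecad_mem ![x0, x1, x2, x3, x4] (fun i => ofPos i) hi b_inj (by
      intro i
      fin_cases i
      · exact h0
      · exact h1
      · exact h2
      · exact h3
      · exact h4) b_mem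
  exact ⟨c, ⟨hc, hcd⟩, hcx 0, hcx 1, hcx 2, hcx 3, hcx 4⟩

/-! ### candidates -/

/-- the images of the positions `0, …, 4` -/
def im (g : Perm GolayPt) : List ℕ :=
  [pos (g (ofPos 0)), pos (g (ofPos 1)), pos (g (ofPos 2)), pos (g (ofPos 3)), pos (g (ofPos 4))]

/-- the same for a table -/
def imT (t : ℕ) : List ℕ := [dig t 0, dig t 1, dig t 2, dig t 3, dig t 4]

/-- the list of images occurs among the candidates -/
def cov (T : List (ℕ × ℕ × ℕ)) (l : List ℕ) : Bool := T.any fun e => imT e.1 == l

/-- the candidates are certified -/
def okT (mem : ℕ → Bool) (R : List (List ℕ)) (T : List (ℕ × ℕ × ℕ)) : Bool :=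
  T.all fun e => mem e.1 && okC mem R e.2.1 e.2.2 [e.1]

theorem ok_of_cov {G : Subgroup (Perm GolayPt)} (hG12 : G ≤ Spor.M12) {mem : ℕ → Bool} (hG : Mem G mem)
    {R : List (List ℕ)} (hR : okRs mem R = true) {T : List (ℕ × ℕ × ℕ)} (hT : okT mem R T = true)
    {g : Perm GolayPt} (hg : g ∈ G) (h : cov T (im g) = true) : Ok G g := by
  rw [cov, List.any_eq_true] at h
  obtain ⟨e, he, h1⟩ := h
  have h2 := List.all_eq_true.1 hT e he
  rw [Bool.and_eq_true] at h2
  have hv := hG.valid _ h2.1
  have h3 := ok_of_okC hG hR (W := [e.1]) (by simpa using hv) h2.2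
  rw [wp_one] at h3
  have h4 : g = perm e.1 := by
    refine eq_of_fix (hG12 hg) (hG12 (hG.mem _ h2.1)) fun i => pos_injective ?_
    rw [pos_perm hv]
    rw [beq_iff_eq] at h1
    simp only [imT, im, List.cons.injEq, and_true] at h1
    obtain ⟨e0, e1, e2, e3, e4⟩ := h1
    fin_cases i
    · show pos (g (ofPos 0)) = dig e.1 (pos (ofPos 0))
      rw [pos_ofPos (by norm_num), e0]
    · show pos (g (ofPos 1)) = dig e.1 (pos (ofPos 1))
      rw [pos_ofPos (by norm_num), e1]
    · show pos (g (ofPos 2)) = dig e.1 (pos (ofPos 2))
      rw [pos_ofPos (by norm_num), e2]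
    · show pos (g (ofPos 3)) = dig e.1 (pos (ofPos 3))
      rw [pos_ofPos (by norm_num), e3]
    · show pos (g (ofPos 4)) = dig e.1 (pos (ofPos 4))
      rw [pos_ofPos (by norm_num), e4]
  rw [h4]
  exact h3

/-- all images of the last point are covered -/
def covY (T : List (ℕ × ℕ × ℕ)) (a b c d : ℕ) : Bool :=
  allB (fun y => !(DD.testBit y) || (Nat.beq y a || (Nat.beq y b || (Nat.beq y c || (Nat.beq y d ||
    cov T [a, b, c, d, y]))))) 24

theorem cov_of_covY {T : List (ℕ × ℕ × ℕ)} {a b c d : ℕ} (h : covY T a b c d = true) {y : ℕ} (hy : y < 24)
    (hD : DD.testBit y = true) (ha : y ≠ a) (hb : y ≠ b) (hc : y ≠ c) (hd : y ≠ d) : cov T [a, b, c, d, y] = true := by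
  have h1 := allB_iff.1 h y hy
  rw [hD] at h1
  have e : ∀ z : ℕ, y ≠ z → Nat.beq y z = false := fun z hz => by
    rw [← Bool.not_eq_true]
    intro hn
    exact hz (Nat.eq_of_beq_eq_true hn)
  rw [e a ha, e b hb, e c hc, e d hd] at h1
  simpa using h1

/-- the last image -/
theorem last {g : Perm GolayPt} (hg : g ∈ Spor.M12) {a b c d : ℕ} (h0 : pos (g (ofPos 0)) = a)
    (h1 : pos (g (ofPos 1)) = b) (h2 : pos (g (ofPos 2)) = c) (h3 : pos (g (ofPos 3)) = d) {T : List (ℕ × ℕ × ℕ)}
    (h : covY T a b c d = true) : cov T (im g) = true := by
  have hne : ∀ i : ℕ, i < 4 → pos (g (ofPos 4)) ≠ pos (g (ofPos i)) := by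
    intro i hi h
    have h1 := congrArg pos (g.injective (pos_injective h))
    rw [pos_ofPos (by norm_num), pos_ofPos (by omega)] at h1
    omega
  have hn0 := hne 0 (by norm_num)
  have hn1 := hne 1 (by norm_num)
  have hn2 := hne 2 (by norm_num)
  have hn3 := hne 3 (by norm_num)
  rw [h0] at hn0
  rw [h1] at hn1
  rw [h2] at hn2
  rw [h3] at hn3
  have hD : DD.testBit (pos (g (ofPos 4))) = true := by
    rw [← mem_squareDodecad]
    exact inv_dd hg (ofPos_mem (by norm_num) (by decide +kernel))
  have := cov_of_covY h (pos_lt _) hD hn0 hn1 hn2 hn3
  unfold im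
  rw [h0, h1, h2, h3]
  exact this

/-! ### the data -/

/-- representatives with certificates -/
def R12 : List (List ℕ) := [
  [898484729458158192692649263120911425, 236880283859613174868634642880667844, 933788878095593830409337451372943872, 642041783763028730224227993988959360, 811514074285016110878067248001484900, 984818244535754528103549039458486304, 984818244535754528103549039458486304],
  [928956207748489646867718987829087297, 232775719131361124593376250934329481, 482446833553064458854628755004527105, 588336453741888802646980634186500608, 222763806235251876727095980483424848, 984818244535754528103549039458486304, 984818244535754528103549039458486304],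
  [808997555123113364359982859214261313, 923155938389183332720448507340734476, 236669695758480436411743305324831872, 320199866911774901337190451787600178, 230624449504068125033018689321025792, 975082325194118816885143113970485382, 984818244535754528103549039458486304],
  [595156062558968193060776939999071297, 978082640206341067394339865280678147, 892251487389913098085336079826753568, 310671514129840954554660569122705696, 485083552727068439414745620265634953, 984818244535754528103549039458486304, 984818244535754528103549039458486304],
  [894826612913440236635879232053054529, 732737110748432263734149047080038592, 311186157528813761359377697914167341, 901803286448115792772728721502212480, 974352600408442026640051917252791436, 984818244535754528103549039458486304, 984818244535754528103549039458486304],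
  [819500144324392164066639820381883457, 965381391017740644537583804454473234, 807631220418065388323486706776178785, 712941236837556970995971985245346226, 486349973926430203268823274221996064, 799154485223112592205984882891430025, 984818244535754528103549039458486304],
  [591575994440987453871324045598919745, 815894359187758786235173316975708296, 487607711423101475322113960561549377, 731682470506012057756351896624837824, 309650488557874025792959714402910630, 984818244535754528103549039458486304, 984818244535754528103549039458486304],
  [921049981145923694173564767094049857, 610404626687013558553106791818208466, 234068757277656739370983249329327488, 237035019059890633598361414335538432, 944404058022041652138526881369704744, 984818244535754528103549039458486304, 984818244535754528103549039458486304],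
  [733020829433098601945951328301747265, 475936462394934765121151923860488195, 853310882173364053259203824749457664, 983549310955746530506231437997410400, 222848521963869917746636076779308099, 984818244535754528103549039458486304, 984818244535754528103549039458486304],
  [733886796953376986790965926451743809, 965381391017740644537583804454473234, 601833030894068579125558836708180068, 983549310955746530506231437997410400, 237088193432378916389358651429618755, 984818244535754528103549039458486304, 984818244535754528103549039458486304],
  [720094209060563622350248573986275393, 815894359187758786235173316975708296, 435429386937579676864834584479020608, 984642754306893001986305023279301696, 899229008835701377456323923669024802, 984818244535754528103549039458486304, 984818244535754528103549039458486304],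
  [891256915141300104684601826038906945, 713114875993174074602215407702421568, 970452037038246367669431024360720385, 228001363311221454468151101670655040, 849416126364359053244497173116485666, 984818244535754528103549039458486304, 984818244535754528103549039458486304],
  [735548533734033527546468929854573569, 649633181298607112566905469038633058, 934262872985473005113463238312331649, 984818244535754528103549039458486304, 735548533734033527546468929854573569, 984818244535754528103549039458486304, 984818244535754528103549039458486304],
  [234127864083396158983920601914215425, 466440571672276503827841844985766288, 799018754006801070629192854217624128, 984818244535754528103549039458486304, 234127864083396158983920601914215425, 984818244535754528103549039458486304, 984818244535754528103549039458486304],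
  [984818244535754528103549039458486304, 649633181298607112566905469038633058, 984818244535754528103549039458486304, 984818244535754528103549039458486304, 984818244535754528103549039458486304, 984818244535754528103549039458486304, 984818244535754528103549039458486304]]

/-- the candidates -/
def T12 : List (ℕ × ℕ × ℕ) := [
  (898484729458158192692649263120911425, 0, 984818244535754528103549039458486304),
  (928956207748489646867718987829087297, 1, 984818244535754528103549039458486304),
  (808997555123113364359982859214261313, 2, 984818244535754528103549039458486304),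
  (595156062558968193060776939999071297, 3, 984818244535754528103549039458486304),
  (894826612913440236635879232053054529, 4, 984818244535754528103549039458486304),
  (819500144324392164066639820381883457, 5, 984818244535754528103549039458486304),
  (591575994440987453871324045598919745, 6, 984818244535754528103549039458486304),
  (921049981145923694173564767094049857, 7, 984818244535754528103549039458486304),
  (733020829433098601945951328301747265, 8, 984818244535754528103549039458486304),
  (975269103903136450942210555640810561, 7, 482496510766057614287142444583174340),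
  (222809027067738147179961976625302593, 8, 719923664328491199848526586197411872),
  (980343459732241923187908594281483329, 7, 938983866059540868889146151829684516),
  (733886796953376986790965926451743809, 9, 984818244535754528103549039458486304),
  (591256771632032774282378023355288641, 7, 892595078867849318524527989802353060),
  (237127015575156948651106428642135105, 9, 719923664328491199848526586197411872),
  (595308628611987246373365018095782977, 7, 851112910188416437677427553930101316),
  (898495149309473027537645221522309185, 4, 980912434952088875649008089304580358),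
  (720094209060563622350248573986275393, 10, 984818244535754528103549039458486304),
  (716161247547603793916012212833615937, 4, 974273943937413152839154210196496515),
  (485894848060012814852254170166198337, 4, 588743328900830167471763844435027075),
  (891256915141300104684601826038906945, 11, 984818244535754528103549039458486304),
  (630159542220795596128273103613722689, 4, 238262143147123490084301760488486019),
  (648568480592680036973442836520370241, 10, 719360590536681843314903822610073632),
  (487075257314043985342414779811233857, 10, 227468939079694360949178429167896608),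
  (608132182080247986231149538876424257, 11, 970254902120350598020240965873371168),
  (735548533734033527546468929854573569, 12, 984818244535754528103549039458486304),
  (968996774143150361768157684793674753, 9, 477231728496140848700975835267772612),
  (234127864083396158983920601914215425, 13, 984818244535754528103549039458486304),
  (965259690662158669917158057253604353, 9, 483516742762800626053825510974370084),
  (721309179197215149166510279720242177, 12, 608405391266436187982588441666881568),
  (601305442431200926218084222330014721, 13, 735500604421669808992593446508235808),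
  (235858092014725848871085848532159489, 13, 719923664328491199848526586197411872),
  (606616056642888436882462226996333569, 13, 969202056781860934635753244362607648),
  (984573615201180725592165913404213249, 12, 438247705506312452254916046926157856),
  (984818244535754528103549039458486304, 14, 984818244535754528103549039458486304)]

/-- representatives with certificates -/
def R11 : List (List ℕ) := [
  [648321739110346641762324489167834176, 642122845964671879496613804878931360, 815890003859868970351234123462423584, 984799016615329826603595760505294880, 642041783763028730224227993988959360, 984818244535754528103549039458486304, 984818244535754528103549039458486304],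
  [217659858509939740509415197420686400, 444650913369756444076354912075729184, 809159804169532380442896524620636192, 984799016615329826603595760505294880, 965346966670364367458681901213092896, 845928014986720888753639071069341984, 984818244535754528103549039458486304],
  [932731258909754711107895596589124672, 808360706329781038052304668183763040, 892251487389913098085336079826753568, 969240118097008726526406917528625184, 435164862652805219953057134465356032, 984818244535754528103549039458486304, 984818244535754528103549039458486304],
  [928915758097480006890646893598215232, 442945218154596116068363778691051776, 642210217915738116928494230501340192, 944496878599615485569661386094854176, 965342965745788789474711026298660352, 984818244535754528103549039458486304, 984818244535754528103549039458486304],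
  [221632793092827583847606021369498688, 853740417656926042683247309447547296, 984769902586367543974814854303385632, 984799016615329826603595760505294880, 969202056781860934635753244362607648, 887543800568078526976238466843642048, 984818244535754528103549039458486304],
  [860920589307070950875358729706015808, 859789292736789918994383997559245312, 445530641841332779347650930801708288, 969240118097008726526406917528625184, 944576703234065857180591671912828960, 859801253374563838922762248489667136, 984818244535754528103549039458486304],
  [858442266781340310812556470406745152, 464273788102250047343585613211670816, 425308756363103913688763908517071904, 969240118097008726526406917528625184, 320197908119674142562552882269558816, 817394717607864525717900437196419488, 984818244535754528103549039458486304],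
  [731722996265023435542964160459476032, 442945218154596116068363778691051776, 606905132329921280441625681951460384, 735500604421669808992593446508235808, 983549310955746530506231437997410400, 984818244535754528103549039458486304, 984818244535754528103549039458486304],
  [648333173198446926654847902756766784, 859789292736789918994383997559245312, 642041783763028730224227993988959360, 984818244535754528103549039458486304, 648333173198446926654847902756766784, 984818244535754528103549039458486304, 984818244535754528103549039458486304],
  [984818244535754528103549039458486304, 609100536104349481165966850654348352, 984818244535754528103549039458486304, 984818244535754528103549039458486304, 984818244535754528103549039458486304, 984818244535754528103549039458486304, 984818244535754528103549039458486304]]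

/-- the candidates -/
def T11 : List (ℕ × ℕ × ℕ) := [
  (648321739110346641762324489167834176, 0, 984818244535754528103549039458486304),
  (217659858509939740509415197420686400, 1, 984818244535754528103549039458486304),
  (932731258909754711107895596589124672, 2, 984818244535754528103549039458486304),
  (928915758097480006890646893598215232, 3, 984818244535754528103549039458486304),
  (645607775928673867443213358455721024, 2, 887300213182506238556075575598462144),
  (221632793092827583847606021369498688, 4, 984818244535754528103549039458486304),
  (860920589307070950875358729706015808, 5, 984818244535754528103549039458486304),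
  (858442266781340310812556470406745152, 6, 984818244535754528103549039458486304),
  (731722996265023435542964160459476032, 7, 984818244535754528103549039458486304),
  (981759386190175716564125263593507904, 7, 608405391266436187982588441666881568),
  (217617199158940686300653144474946624, 3, 638314252217629004313164677474721920),
  (982939420336662894431691245045713984, 3, 483111192575321076089871798609978496),
  (726098387229991916328255735577218112, 3, 651281526325797008842461945198452928),
  (610727855379770684683436871688162368, 7, 719923664328491199848526586197411872),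
  (221550289410297402012191048719174720, 7, 227578386318009578406903204956702752),
  (596606098937906343490530381836356672, 3, 850957016108123575303050340897933440),
  (648333173198446926654847902756766784, 8, 984818244535754528103549039458486304),
  (233233386906768391987032901617288256, 8, 809127892823755776035426641505355808),
  (984818244535754528103549039458486304, 9, 984818244535754528103549039458486304)]

theorem R12_ok : okRs mem12 R12 = true := by decide +kernel
theorem T12_ok : okT mem12 R12 T12 = true := by decide +kernel
theorem R11_ok : okRs mem11 R11 = true := by decide +kernel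
theorem T11_ok : okT mem11 R11 T11 = true := by decide +kernel

/-! ### `M₁₂` -/

/-- conjugation to a standard position -/
theorem conj12 {g : Perm GolayPt} {x0 x1 x2 x3 x4 : GolayPt} (h : [x0, x1, x2, x3, x4].Nodup)
    (h0 : x0 ∈ Spor.squareDodecad) (h1 : x1 ∈ Spor.squareDodecad) (h2 : x2 ∈ Spor.squareDodecad)
    (h3 : x3 ∈ Spor.squareDodecad) (h4 : x4 ∈ Spor.squareDodecad) (hg : g ∈ Spor.M12)
    (key : ∀ c ∈ Spor.M12, c x0 = ofPos 0 → c x1 = ofPos 1 → c x2 = ofPos 2 → c x3 = ofPos 3 → c x4 = ofPos 4 →
      cov T12 (im (c * g * c⁻¹)) = true) : Ok Spor.M12 g := by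
  obtain ⟨c, hc, c0, c1, c2, c3, c4⟩ := tr12 h h0 h1 h2 h3 h4
  have h5 := ok_of_cov le_rfl Mem12 R12_ok T12_ok (Spor.M12.mul_mem (Spor.M12.mul_mem hc hg) (Spor.M12.inv_mem hc))
    (key c hc c0 c1 c2 c3 c4)
  refine Ok.conj h5 (Spor.M12.inv_mem hc) ?_
  group

theorem val {c g : Perm GolayPt} {x : GolayPt} {i : ℕ} (h : c x = ofPos i) : (c * g * c⁻¹) (ofPos i) = c (g x) := by
  rw [← h, Perm.mul_apply, Perm.mul_apply, show c⁻¹ (c x) = x from Equiv.symm_apply_apply c x]

theorem ok12 (g : Perm GolayPt) (hg : g ∈ Spor.M12) : Ok Spor.M12 g := by
  have hm : ∀ {c : Perm GolayPt}, c ∈ Spor.M12 → c * g * c⁻¹ ∈ Spor.M12 := fun hc =>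
    Spor.M12.mul_mem (Spor.M12.mul_mem hc hg) (Spor.M12.inv_mem hc)
  have iv : ∀ {p : GolayPt}, p ∈ Spor.squareDodecad → g p ∈ Spor.squareDodecad := fun hp => inv_dd hg hp
  rcases cyc5 (σ := g) (Y := Spor.squareDodecad) (by rw [card_squareDodecad]; norm_num) with
    ⟨x, hx, hn⟩ | ⟨x, hx, z, hz, h1, hn⟩ | ⟨x, hx, z, hz, h1, hn⟩ | ⟨x, hx, z, hz, w, hw, h1, h2, h3, hn⟩ |
    ⟨x, hx, z, hz, w, hw, h1, h2, hn⟩ | ⟨x, hx, z, hz, w, hw, u, hu, h1, h2, h3, h4, hn⟩ |
    ⟨x, hx, y, hy, z, hz, w, hw, u, hu, h1, h2, h3, h4, h5, hn⟩
  · refine conj12 hn hx (iv hx) (iv (iv hx)) (iv (iv (iv hx))) (iv (iv (iv (iv hx)))) hg fun c hc c0 c1 c2 c3 c4 => ?_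
    refine last (hm hc) (a := 1) (b := 2) (c := 3) (d := 4) ?_ ?_ ?_ ?_ (by decide +kernel)
    · rw [val c0, c1, pos_ofPos (by norm_num)]
    · rw [val c1, c2, pos_ofPos (by norm_num)]
    · rw [val c2, c3, pos_ofPos (by norm_num)]
    · rw [val c3, c4, pos_ofPos (by norm_num)]
  · refine conj12 hn hx (iv hx) (iv (iv hx)) (iv (iv (iv hx))) hz hg fun c hc c0 c1 c2 c3 c4 => ?_
    refine last (hm hc) (a := 1) (b := 2) (c := 3) (d := 0) ?_ ?_ ?_ ?_ (by decide +kernel)
    · rw [val c0, c1, pos_ofPos (by norm_num)]
    · rw [val c1, c2, pos_ofPos (by norm_num)]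
    · rw [val c2, c3, pos_ofPos (by norm_num)]
    · rw [val c3, h1, c0, pos_ofPos (by norm_num)]
  · refine conj12 hn hx (iv hx) (iv (iv hx)) hz (iv hz) hg fun c hc c0 c1 c2 c3 c4 => ?_
    refine last (hm hc) (a := 1) (b := 2) (c := 0) (d := 4) ?_ ?_ ?_ ?_ (by decide +kernel)
    · rw [val c0, c1, pos_ofPos (by norm_num)]
    · rw [val c1, c2, pos_ofPos (by norm_num)]
    · rw [val c2, h1, c0, pos_ofPos (by norm_num)]
    · rw [val c3, c4, pos_ofPos (by norm_num)]
  · refine conj12 hn hx (iv hx) (iv (iv hx)) hz hw hg fun c hc c0 c1 c2 c3 c4 => ?_
    have e : im (c * g * c⁻¹) = [1, 2, 0, 3, 4] := by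
      unfold im
      rw [val c0, val c1, val c2, val c3, val c4, c1, c2, h1, h2, h3, c0, c3, c4, pos_ofPos (by norm_num),
        pos_ofPos (by norm_num), pos_ofPos (by norm_num), pos_ofPos (by norm_num), pos_ofPos (by norm_num)]
    rw [e]
    decide +kernel
  · refine conj12 hn hx (iv hx) hz (iv hz) hw hg fun c hc c0 c1 c2 c3 c4 => ?_
    refine last (hm hc) (a := 1) (b := 0) (c := 3) (d := 2) ?_ ?_ ?_ ?_ (by decide +kernel)
    · rw [val c0, c1, pos_ofPos (by norm_num)]
    · rw [val c1, h1, c0, pos_ofPos (by norm_num)]
    · rw [val c2, c3, pos_ofPos (by norm_num)]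
    · rw [val c3, h2, c2, pos_ofPos (by norm_num)]
  · refine conj12 hn hx (iv hx) hz hw hu hg fun c hc c0 c1 c2 c3 c4 => ?_
    have e : im (c * g * c⁻¹) = [1, 0, 2, 3, 4] := by
      unfold im
      rw [val c0, val c1, val c2, val c3, val c4, c1, h1, h2, h3, h4, c0, c2, c3, c4, pos_ofPos (by norm_num),
        pos_ofPos (by norm_num), pos_ofPos (by norm_num), pos_ofPos (by norm_num), pos_ofPos (by norm_num)]
    rw [e]
    decide +kernel
  · refine conj12 hn hx hy hz hw hu hg fun c hc c0 c1 c2 c3 c4 => ?_
    have e : im (c * g * c⁻¹) = [0, 1, 2, 3, 4] := by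
      unfold im
      rw [val c0, val c1, val c2, val c3, val c4, h1, h2, h3, h4, h5, c0, c1, c2, c3, c4, pos_ofPos (by norm_num),
        pos_ofPos (by norm_num), pos_ofPos (by norm_num), pos_ofPos (by norm_num), pos_ofPos (by norm_num)]
    rw [e]
    decide +kernel

/-! ### `M₁₁` -/

theorem M11_le : Spor.M11 ≤ Spor.M12 := inf_le_left

theorem ofPos_zero : ofPos 0 = (some 0 : GolayPt) := by decide +kernel

theorem fix11 {g : Perm GolayPt} (hg : g ∈ Spor.M11) : g (ofPos 0) = ofPos 0 := by
  rw [ofPos_zero]
  exact hg.2

theorem conj11 {g : Perm GolayPt} {x1 x2 x3 x4 : GolayPt} (h : [x1, x2, x3, x4].Nodup)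
    (h1 : x1 ∈ Spor.squareDodecad.erase (ofPos 0)) (h2 : x2 ∈ Spor.squareDodecad.erase (ofPos 0))
    (h3 : x3 ∈ Spor.squareDodecad.erase (ofPos 0)) (h4 : x4 ∈ Spor.squareDodecad.erase (ofPos 0))
    (hg : g ∈ Spor.M11)
    (key : ∀ c ∈ Spor.M11, c x1 = ofPos 1 → c x2 = ofPos 2 → c x3 = ofPos 3 → c x4 = ofPos 4 →
      cov T11 (im (c * g * c⁻¹)) = true) : Ok Spor.M11 g := by
  rw [Finset.mem_erase] at h1 h2 h3 h4
  obtain ⟨c, hc, c0, c1, c2, c3, c4⟩ := tr12 (x0 := ofPos 0) (x1 := x1) (x2 := x2) (x3 := x3) (x4 := x4) (by
    rw [List.nodup_cons]
    refine ⟨?_, h⟩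
    simp only [List.mem_cons, List.not_mem_nil, or_false, not_or]
    exact ⟨h1.1.symm, h2.1.symm, h3.1.symm, h4.1.symm⟩) (b_mem 0) h1.2 h2.2 h3.2 h4.2
  have hc' : c ∈ Spor.M11 := by
    refine ⟨hc, ?_⟩
    rw [ofPos_zero] at c0
    exact c0
  have h5 := ok_of_cov M11_le Mem11 R11_ok T11_ok (Spor.M11.mul_mem (Spor.M11.mul_mem hc' hg) (Spor.M11.inv_mem hc'))
    (key c hc' c1 c2 c3 c4)
  refine Ok.conj h5 (Spor.M11.inv_mem hc') ?_
  group

theorem ok11 (g : Perm GolayPt) (hg : g ∈ Spor.M11) : Ok Spor.M11 g := by
  have hm : ∀ {c : Perm GolayPt}, c ∈ Spor.M11 → c * g * c⁻¹ ∈ Spor.M11 := fun hc =>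
    Spor.M11.mul_mem (Spor.M11.mul_mem hc hg) (Spor.M11.inv_mem hc)
  have iv : ∀ {p : GolayPt}, p ∈ Spor.squareDodecad.erase (ofPos 0) → g p ∈ Spor.squareDodecad.erase (ofPos 0) := by
    intro p hp
    rw [Finset.mem_erase] at hp ⊢
    refine ⟨fun h => hp.1 ?_, inv_dd (M11_le hg) hp.2⟩
    apply g.injective
    rw [h, fix11 hg]
  have f0 : ∀ {c : Perm GolayPt}, c ∈ Spor.M11 → pos ((c * g * c⁻¹) (ofPos 0)) = 0 := fun hc => by
    rw [fix11 (hm hc), pos_ofPos (by norm_num)]
  rcases cyc4 (σ := g) (Y := Spor.squareDodecad.erase (ofPos 0)) (by
      rw [Finset.card_erase_of_mem (show ofPos 0 ∈ Spor.squareDodecad from b_mem 0), card_squareDodecad]; norm_num) with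
    ⟨x, hx, hn⟩ | ⟨x, hx, z, hz, h1, hn⟩ | ⟨x, hx, z, hz, h1, h2, hn⟩ | ⟨x, hx, z, hz, w, hw, h1, h2, h3, hn⟩ |
    ⟨x, hx, y, hy, z, hz, w, hw, h1, h2, h3, h4, hn⟩
  · refine conj11 hn hx (iv hx) (iv (iv hx)) (iv (iv (iv hx))) hg fun c hc c1 c2 c3 c4 => ?_
    refine last (M11_le (hm hc)) (a := 0) (b := 2) (c := 3) (d := 4) (f0 hc) ?_ ?_ ?_ (by decide +kernel)
    · rw [val c1, c2, pos_ofPos (by norm_num)]
    · rw [val c2, c3, pos_ofPos (by norm_num)]
    · rw [val c3, c4, pos_ofPos (by norm_num)]
  · refine conj11 hn hx (iv hx) (iv (iv hx)) hz hg fun c hc c1 c2 c3 c4 => ?_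
    refine last (M11_le (hm hc)) (a := 0) (b := 2) (c := 3) (d := 1) (f0 hc) ?_ ?_ ?_ (by decide +kernel)
    · rw [val c1, c2, pos_ofPos (by norm_num)]
    · rw [val c2, c3, pos_ofPos (by norm_num)]
    · rw [val c3, h1, c1, pos_ofPos (by norm_num)]
  · refine conj11 hn hx (iv hx) hz (iv hz) hg fun c hc c1 c2 c3 c4 => ?_
    have e : im (c * g * c⁻¹) = [0, 2, 1, 4, 3] := by
      unfold im
      rw [f0 hc, val c1, val c2, val c3, val c4, c2, h1, h2, c1, c3, c4, pos_ofPos (by norm_num),
        pos_ofPos (by norm_num), pos_ofPos (by norm_num), pos_ofPos (by norm_num)]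
    rw [e]
    decide +kernel
  · refine conj11 hn hx (iv hx) hz hw hg fun c hc c1 c2 c3 c4 => ?_
    have e : im (c * g * c⁻¹) = [0, 2, 1, 3, 4] := by
      unfold im
      rw [f0 hc, val c1, val c2, val c3, val c4, c2, h1, h2, h3, c1, c3, c4, pos_ofPos (by norm_num),
        pos_ofPos (by norm_num), pos_ofPos (by norm_num), pos_ofPos (by norm_num)]
    rw [e]
    decide +kernel
  · refine conj11 hn hx hy hz hw hg fun c hc c1 c2 c3 c4 => ?_
    have e : im (c * g * c⁻¹) = [0, 1, 2, 3, 4] := by
      unfold im
      rw [f0 hc, val c1, val c2, val c3, val c4, h1, h2, h3, h4, c1, c2, c3, c4, pos_ofPos (by norm_num),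
        pos_ofPos (by norm_num), pos_ofPos (by norm_num), pos_ofPos (by norm_num)]
    rw [e]
    decide +kernel

/-! ### the rows -/

theorem ore_m12 {S : Type*} [Group S] (h : Spor.IsoM12 S) : AllC S := by
  obtain ⟨e⟩ := h
  exact (allC_of_ok ok12).congr e.symm

theorem four_m12 {S : Type*} [Group S] (h : Spor.IsoM12 S) : Inv4 S := by
  obtain ⟨e⟩ := h
  exact inv4_congr e.symm (inv4_of_ok ok12)

theorem ore_m11 {S : Type*} [Group S] (h : Spor.IsoM11 S) : AllC S := by
  obtain ⟨e⟩ := h
  exact (allC_of_ok ok11).congr e.symm

theorem four_m11 {S : Type*} [Group S] (h : Spor.IsoM11 S) : Inv4 S := by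
  obtain ⟨e⟩ := h
  exact inv4_congr e.symm (inv4_of_ok ok11)

end Cfsg.Agent.H922.Ore
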