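import Cfsg.Agent.H922.Ore.HSCheck
import Cfsg.Agent.H922.Ore.MTwelve
import Cfsg.Agent.HN.AutHS

/-!
# `HS`: every element is a commutator and a product of four involutions (helper922)
-/

set_option autoImplicit false

namespace Cfsg.Agent.H922.Ore.HS

open Equiv Cfsg.Agent.HN.HS100 Cfsg.Agent.HN.Pres Cfsg.Agent.SporadicA.PermTab
open Cfsg.Agent.H922.Ore.Gr
open Cfsg.Agent.H777.Ore (IsC AllC I4 Inv4)

theorem mem_Q_iff {g : Perm (Fin 100)} (hg : g ∈ φ.range) : g ∈ Q ↔ Perm.sign g = 1 := by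
  obtain ⟨h, rfl⟩ := hg
  constructor
  · rintro ⟨k, hk, he⟩
    rw [← he]
    exact hk
  · intro hs
    exact ⟨h, hs, rfl⟩

theorem Q_le_range : Q ≤ φ.range := by
  rintro _ ⟨g, -, rfl⟩
  exact ⟨g, rfl⟩

theorem norm_Q : ∀ r ∈ φ.range, ∀ q ∈ Q, r * q * r⁻¹ ∈ Q := by
  intro r hr q hq
  rw [mem_Q_iff (φ.range.mul_mem (φ.range.mul_mem hr (Q_le_range hq)) (φ.range.inv_mem hr))]
  have h := (mem_Q_iff (Q_le_range hq)).1 hq
  rw [map_mul, map_mul, h, map_inv, mul_one, mul_inv_cancel]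

theorem card_range : Nat.card φ.range = 2 * Nat.card Q := by
  let f : φ.range →* ℤˣ := Perm.sign.comp φ.range.subtype
  have h1 : Function.Surjective f := by
    intro u
    rcases Int.units_eq_one_or u with rfl | rfl
    · exact ⟨1, map_one _⟩
    · exact ⟨⟨φ gz, gz, rfl⟩, sgn_gz⟩
  have h2 : f.ker = Q.subgroupOf φ.range := by
    ext g
    rw [MonoidHom.mem_ker, Subgroup.mem_subgroupOf, mem_Q_iff g.2]
    rfl
  have h3 := f.ker.index_mul_card
  rw [Subgroup.index_ker, MonoidHom.range_eq_top.2 h1, Subgroup.card_top, h2,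
    Nat.card_congr (Subgroup.subgroupOfEquivOfLe Q_le_range).toEquiv] at h3
  rw [← h3, Nat.card_eq_fintype_card]
  rfl

theorem in5g : ∀ P ∈ [tX, tY, tYi, tW, tWi], InG Q P := by
  intro P hP
  simp only [List.mem_cons, List.not_mem_nil, or_false] at hP
  rcases hP with rfl | rfl | rfl | rfl | rfl
  · exact inX
  · exact inY
  · exact inG_inv inY cY
  · exact inW
  · exact inG_inv inW (by decide +kernel)

theorem mem_all : ∀ i, ∀ P ∈ (D i).A ++ (D i).B ++ (D i).S ++ (D i).T ++ (D i).R, InG Q P := by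
  intro i P hP
  apply in5g
  revert P
  fin_cases i <;> decide +kernel

theorem card_range_le : Nat.card φ.range ≤ 88704000 := by
  have h := chk0
  simp only [Cls.chk, Bool.and_eq_true] at h
  have h1 : Acts (1 : Perm (Fin 100)) [d0.X] := by
    intro i
    revert i
    decide +kernel
  have h2 := card_le_of_chC h1 d0.m d0.k d0.L φ.range [] range_le (fun c _ i => rfl)
    (fun c _ f hf => absurd hf List.not_mem_nil) h.2.1
  exact h2

theorem card_Q_eq : Nat.card Q = 44352000 := by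
  have h1 := card_range
  have h2 := card_range_le
  have h3 := card_Q_ge
  omega

theorem ok_Q : ∀ g ∈ Q, Ok Q g := by
  refine ok_all (R := φ.range) (A := adjA) Q_le_range range_le norm_Q D chk_all mem_all ?_ ?_
  · intro i j
    revert i j
    decide +kernel
  · rw [card_range, card_Q_eq]
    decide +kernel

theorem ore_hs {S : Type*} [Group S] (h : Spor.IsoHS S) : AllC S := by
  obtain ⟨⟨e⟩, -⟩ := Cfsg.Agent.HN.AutHS.nonempty_Q
  obtain ⟨f⟩ := h
  exact (allC_of_ok ok_Q).congr (e.trans f.symm)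

theorem four_hs {S : Type*} [Group S] (h : Spor.IsoHS S) : Inv4 S := by
  obtain ⟨⟨e⟩, -⟩ := Cfsg.Agent.HN.AutHS.nonempty_Q
  obtain ⟨f⟩ := h
  exact inv4_congr (e.trans f.symm) (inv4_of_ok ok_Q)

end Cfsg.Agent.H922.Ore.HS
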