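import Cfsg.Agent.SporadicStructure.DodecadM12
import Cfsg.Prelude.Def_Spor_Mathieu

/-!
# Commutators and products of four involutions in the Mathieu groups: tools (helper922)

* `Ok G g` : `g` is a commutator of elements of `G` and a product of four elements of `G` with square one;
* `wp`, `wp_eq` : equality of words in table-coded permutations;
* `cyc5`, `cyc4`, `cyc3` : the shapes of a permutation on a set.
-/

set_option autoImplicit false

namespace Cfsg.Agent.H922.Ore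

open Cfsg Equiv Cfsg.Agent.SporadicStructure.M12Core Cfsg.Agent.SporadicStructure.DodecadM12

/-- `g` is a commutator and a product of four involutions in the subgroup `G` -/
structure Ok {X : Type*} (G : Subgroup (Perm X)) (g : Perm X) : Prop where
  comm : ∃ a ∈ G, ∃ b ∈ G, g * b * a = a * b
  four : ∃ s ∈ G, ∃ t ∈ G, ∃ u ∈ G, ∃ v ∈ G,
    s * s = 1 ∧ t * t = 1 ∧ u * u = 1 ∧ v * v = 1 ∧ g = s * t * u * v

theorem Ok.conj {X : Type*} {G : Subgroup (Perm X)} {g r c : Perm X} (hr : Ok G r) (hc : c ∈ G)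
    (h : g * c = c * r) : Ok G g := by
  have hg : g = c * r * c⁻¹ := by rw [← h, mul_inv_cancel_right]
  obtain ⟨⟨a, ha, b, hb, h1⟩, ⟨s, hs, t, ht, u, hu, v, hv, h2, h3, h4, h5, h6⟩⟩ := hr
  have hm : ∀ x ∈ G, c * x * c⁻¹ ∈ G := fun x hx => G.mul_mem (G.mul_mem hc hx) (G.inv_mem hc)
  have key : ∀ x y : Perm X, (c * x * c⁻¹) * (c * y * c⁻¹) = c * (x * y) * c⁻¹ := by
    intro x y
    group
  have k1 : ∀ x : Perm X, x * x = 1 → (c * x * c⁻¹) * (c * x * c⁻¹) = 1 := by
    intro x hx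
    rw [key, hx, mul_one, mul_inv_cancel]
  refine ⟨⟨_, hm a ha, _, hm b hb, ?_⟩, ⟨_, hm s hs, _, hm t ht, _, hm u hu, _, hm v hv, k1 s h2, k1 t h3, k1 u h4,
    k1 v h5, ?_⟩⟩
  · rw [hg, key, key, key, h1]
  · rw [hg, key, key, key, h6]

/-! ### words in tables -/

/-- the product of the permutations given by tables -/
noncomputable def wp (L : List ℕ) : Perm GolayPt := (L.map perm).prod

/-- the image of a position -/
def wd (L : List ℕ) (i : ℕ) : ℕ := L.foldr dig i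

theorem pos_wp {L : List ℕ} (hL : ∀ t ∈ L, valid t = true) (p : GolayPt) : pos (wp L p) = wd L (pos p) := by
  induction L with
  | nil => rfl
  | cons t L ih =>
    have h1 : wp (t :: L) p = perm t (wp L p) := by
      show (perm t * wp L) p = _
      rfl
    rw [h1, pos_perm (hL t List.mem_cons_self), ih fun x hx => hL x (List.mem_cons_of_mem _ hx)]
    rfl

/-- equality of words -/
def eqW (L M : List ℕ) : Bool := allB (fun i => Nat.beq (wd L i) (wd M i)) 24

theorem wp_eq {L M : List ℕ} (hL : ∀ t ∈ L, valid t = true) (hM : ∀ t ∈ M, valid t = true) (h : eqW L M = true) :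
    wp L = wp M := by
  apply Equiv.ext
  intro p
  apply pos_injective
  rw [pos_wp hL, pos_wp hM]
  exact Nat.eq_of_beq_eq_true (allB_iff.1 h _ (pos_lt p))

theorem wp_nil : wp [] = 1 := rfl

theorem wp_cons (t : ℕ) (L : List ℕ) : wp (t :: L) = perm t * wp L := rfl

theorem wp_one (t : ℕ) : wp [t] = perm t := by rw [wp_cons, wp_nil, mul_one]

theorem wp_append (L M : List ℕ) : wp (L ++ M) = wp L * wp M := by
  unfold wp
  rw [List.map_append, List.prod_append]

/-- `mem` is a test for membership in `G` -/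
structure Mem (G : Subgroup (Perm GolayPt)) (mem : ℕ → Bool) : Prop where
  valid : ∀ t, mem t = true → valid t = true
  mem : ∀ t, mem t = true → perm t ∈ G

/-- the tables show that the first one is `Ok` -/
def okR (mem : ℕ → Bool) : List ℕ → Bool
  | [P, A, B, s, t, u, v] =>
    valid P && (mem A && (mem B && (mem s && (mem t && (mem u && (mem v && (eqW [P, B, A] [A, B] &&
      (eqW [s, s] [] && (eqW [t, t] [] && (eqW [u, u] [] && (eqW [v, v] [] && eqW [P] [s, t, u, v])))))))))))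
  | _ => false

theorem ok_of_okR {G : Subgroup (Perm GolayPt)} {mem : ℕ → Bool} (hG : Mem G mem) {L : List ℕ}
    (h : okR mem L = true) : valid (L.getD 0 0) = true ∧ Ok G (perm (L.getD 0 0)) := by
  match L, h with
  | [P, A, B, s, t, u, v], h =>
    simp only [okR, Bool.and_eq_true] at h
    obtain ⟨hP, hA, hB, hs, ht, hu, hv, h1, h2, h3, h4, h5, h6⟩ := h
    show valid P = true ∧ Ok G (perm P)
    have two : ∀ x, mem x = true → eqW [x, x] [] = true → perm x * perm x = 1 := by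
      intro x hx h
      have := wp_eq (L := [x, x]) (M := []) (by simp [hG.valid x hx]) (by simp) h
      rwa [wp_cons, wp_one, wp_nil] at this
    refine ⟨hP, ⟨_, hG.mem A hA, _, hG.mem B hB, ?_⟩, ⟨_, hG.mem s hs, _, hG.mem t ht, _, hG.mem u hu, _, hG.mem v hv,
      two s hs h2, two t ht h3, two u hu h4, two v hv h5, ?_⟩⟩
    · have := wp_eq (L := [P, B, A]) (M := [A, B]) (by simp [hP, hG.valid A hA, hG.valid B hB])
        (by simp [hG.valid A hA, hG.valid B hB]) h1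
      rwa [wp_cons, wp_cons, wp_one, wp_cons, wp_one, ← mul_assoc] at this
    · have := wp_eq (L := [P]) (M := [s, t, u, v]) (by simp [hP])
        (by simp [hG.valid s hs, hG.valid t ht, hG.valid u hu, hG.valid v hv]) h6
      rw [wp_one, wp_cons, wp_cons, wp_cons, wp_one] at this
      rw [this, mul_assoc, mul_assoc]

/-- all representatives are `Ok` -/
def okRs (mem : ℕ → Bool) (R : List (List ℕ)) : Bool := R.all (okR mem)

/-- the table of a representative -/
def rep (R : List (List ℕ)) (r : ℕ) : ℕ := (R.getD r []).getD 0 0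

/-- the word `W` is conjugate to the representative number `r` under `c` -/
def okC (mem : ℕ → Bool) (R : List (List ℕ)) (r c : ℕ) (W : List ℕ) : Bool :=
  Nat.blt r R.length && (mem c && eqW (W ++ [c]) [c, rep R r])

theorem ok_of_okC {G : Subgroup (Perm GolayPt)} {mem : ℕ → Bool} (hG : Mem G mem) {R : List (List ℕ)}
    (hR : okRs mem R = true) {r c : ℕ} {W : List ℕ} (hW : ∀ t ∈ W, valid t = true) (h : okC mem R r c W = true) :
    Ok G (wp W) := by
  simp only [okC, Bool.and_eq_true] at h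
  obtain ⟨h1, h2, h3⟩ := h
  have h4 : r < R.length := by simpa using h1
  have h5 : okR mem (R.getD r []) = true := by
    have := List.all_eq_true.1 hR (R[r]) (List.getElem_mem h4)
    rwa [List.getD_eq_getElem _ _ h4]
  obtain ⟨h6, h7⟩ := ok_of_okR hG h5
  refine Ok.conj h7 (hG.mem c h2) ?_
  have h8 := wp_eq (L := W ++ [c]) (M := [c, rep R r]) (by
    intro t ht
    rw [List.mem_append, List.mem_singleton] at ht
    rcases ht with ht | rfl
    · exact hW t ht
    · exact hG.valid t h2) (by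
    intro t ht
    simp only [List.mem_cons, List.not_mem_nil, or_false] at ht
    rcases ht with rfl | rfl
    · exact hG.valid _ h2
    · exact h6) h3
  rw [wp_append, wp_one, wp_cons, wp_one] at h8
  exact h8

/-! ### the shapes of a permutation on a set -/

section shapes

variable {X : Type*} [DecidableEq X] (σ : Perm X) (Y : Finset X)

theorem exists_notin (l : List X) (h : l.length < Y.card) : ∃ z ∈ Y, z ∉ l := by
  by_contra hcon
  push Not at hcon
  have h1 : Y ⊆ l.toFinset := fun z hz => List.mem_toFinset.2 (hcon z hz)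
  have h2 := Finset.card_le_card h1
  have h3 := List.toFinset_card_le l
  omega

omit [DecidableEq X] in
theorem exists_move (l : List X) (h : ¬ ∀ y ∈ Y, y ∉ l → σ y = y) : ∃ z ∈ Y, z ∉ l ∧ σ z ≠ z := by
  push Not at h
  exact h

variable {σ Y}

theorem cyc5 (hc : 8 ≤ Y.card) :
    (∃ x ∈ Y, [x, σ x, σ (σ x), σ (σ (σ x)), σ (σ (σ (σ x)))].Nodup) ∨
    (∃ x ∈ Y, ∃ z ∈ Y, σ (σ (σ (σ x))) = x ∧ [x, σ x, σ (σ x), σ (σ (σ x)), z].Nodup) ∨
    (∃ x ∈ Y, ∃ z ∈ Y, σ (σ (σ x)) = x ∧ [x, σ x, σ (σ x), z, σ z].Nodup) ∨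
    (∃ x ∈ Y, ∃ z ∈ Y, ∃ w ∈ Y, σ (σ (σ x)) = x ∧ σ z = z ∧ σ w = w ∧ [x, σ x, σ (σ x), z, w].Nodup) ∨
    (∃ x ∈ Y, ∃ z ∈ Y, ∃ w ∈ Y, σ (σ x) = x ∧ σ (σ z) = z ∧ [x, σ x, z, σ z, w].Nodup) ∨
    (∃ x ∈ Y, ∃ z ∈ Y, ∃ w ∈ Y, ∃ u ∈ Y, σ (σ x) = x ∧ σ z = z ∧ σ w = w ∧ σ u = u ∧ [x, σ x, z, w, u].Nodup) ∨
    (∃ x ∈ Y, ∃ y ∈ Y, ∃ z ∈ Y, ∃ w ∈ Y, ∃ u ∈ Y, σ x = x ∧ σ y = y ∧ σ z = z ∧ σ w = w ∧ σ u = u ∧
      [x, y, z, w, u].Nodup) := by
  by_cases h5 : ∃ x ∈ Y, [x, σ x, σ (σ x), σ (σ (σ x)), σ (σ (σ (σ x)))].Nodup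
  · exact Or.inl h5
  right
  push Not at h5
  have hp : ∀ x ∈ Y, σ x = x ∨ σ (σ x) = x ∨ σ (σ (σ x)) = x ∨ σ (σ (σ (σ x))) = x := by
    intro x hx
    by_contra hcon
    push Not at hcon
    obtain ⟨h1, h2, h3, h4⟩ := hcon
    apply h5 x hx
    simp only [List.nodup_cons, List.mem_cons, List.not_mem_nil, or_false, not_or, EmbeddingLike.apply_eq_iff_eq,
      not_false_eq_true, List.nodup_nil, and_true]
    exact ⟨⟨h1.symm, h2.symm, h3.symm, h4.symm⟩, ⟨h1.symm, h2.symm, h3.symm⟩, ⟨h1.symm, h2.symm⟩, h1.symm⟩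
  by_cases h4 : ∃ x ∈ Y, σ (σ (σ (σ x))) = x ∧ σ (σ x) ≠ x
  · left
    obtain ⟨x, hx, h41, h42⟩ := h4
    obtain ⟨z, hz, hzn⟩ := exists_notin Y [x, σ x, σ (σ x), σ (σ (σ x))] (by simp; omega)
    refine ⟨x, hx, z, hz, h41, ?_⟩
    have h1 : σ x ≠ x := fun h => h42 (by rw [h, h])
    have h3 : σ (σ (σ x)) ≠ x := fun h => h1 (by rw [h] at h41; exact h41)
    simp only [List.mem_cons, List.not_mem_nil, or_false, not_or] at hzn
    simp only [List.nodup_cons, List.mem_cons, List.not_mem_nil, or_false, not_or, EmbeddingLike.apply_eq_iff_eq,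
      not_false_eq_true, List.nodup_nil, and_true]
    exact ⟨⟨h1.symm, h42.symm, h3.symm, fun h => hzn.1 h.symm⟩, ⟨h1.symm, h42.symm, fun h => hzn.2.1 h.symm⟩,
      ⟨h1.symm, fun h => hzn.2.2.1 h.symm⟩, fun h => hzn.2.2.2 h.symm⟩
  right
  push Not at h4
  have hq : ∀ x ∈ Y, σ (σ x) = x ∨ (σ (σ (σ x)) = x ∧ σ x ≠ x) := by
    intro x hx
    rcases hp x hx with h | h | h | h
    · left; rw [h, h]
    · exact Or.inl h
    · by_cases h1 : σ x = x
      · left; rw [h1, h1]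
      · exact Or.inr ⟨h, h1⟩
    · exact Or.inl (h4 x hx h)
  by_cases h3 : ∃ x ∈ Y, σ (σ (σ x)) = x ∧ σ x ≠ x
  · obtain ⟨x, hx, h31, h32⟩ := h3
    have h2 : σ (σ x) ≠ x := fun h => h32 (by rw [h] at h31; exact h31)
    by_cases hm : ∀ y ∈ Y, y ∉ [x, σ x, σ (σ x)] → σ y = y
    · right; left
      obtain ⟨z, hz, hzn⟩ := exists_notin Y [x, σ x, σ (σ x)] (by simp; omega)
      obtain ⟨w, hw, hwn⟩ := exists_notin Y [x, σ x, σ (σ x), z] (by simp; omega)
      have hwn' : w ∉ [x, σ x, σ (σ x)] := fun h => hwn (by simp at h ⊢; tauto)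
      refine ⟨x, hx, z, hz, w, hw, h31, hm z hz hzn, hm w hw hwn', ?_⟩
      simp only [List.mem_cons, List.not_mem_nil, or_false, not_or] at hzn hwn
      simp only [List.nodup_cons, List.mem_cons, List.not_mem_nil, or_false, not_or, EmbeddingLike.apply_eq_iff_eq,
        not_false_eq_true, List.nodup_nil, and_true]
      exact ⟨⟨h32.symm, h2.symm, fun h => hzn.1 h.symm, fun h => hwn.1 h.symm⟩,
        ⟨h32.symm, fun h => hzn.2.1 h.symm, fun h => hwn.2.1 h.symm⟩,
        ⟨fun h => hzn.2.2 h.symm, fun h => hwn.2.2.1 h.symm⟩, fun h => hwn.2.2.2 h.symm⟩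
    · left
      obtain ⟨z, hz, hzn, hzm⟩ := exists_move σ Y _ hm
      refine ⟨x, hx, z, hz, h31, ?_⟩
      simp only [List.mem_cons, List.not_mem_nil, or_false, not_or] at hzn
      simp only [List.nodup_cons, List.mem_cons, List.not_mem_nil, or_false, not_or, EmbeddingLike.apply_eq_iff_eq,
        not_false_eq_true, List.nodup_nil, and_true]
      refine ⟨⟨h32.symm, h2.symm, fun h => hzn.1 h.symm, fun h => ?_⟩, ⟨h32.symm, fun h => hzn.2.1 h.symm,
        fun h => hzn.1 h.symm⟩, ⟨fun h => hzn.2.2 h.symm, fun h => hzn.2.1 h.symm⟩, fun h => hzm h.symm⟩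
      rw [← h31] at h
      exact hzn.2.2 (σ.injective h).symm
  right; right
  push Not at h3
  have hr : ∀ x ∈ Y, σ (σ x) = x := by
    intro x hx
    rcases hq x hx with h | ⟨h, h'⟩
    · exact h
    · exact absurd (h3 x hx h) h'
  by_cases h2 : ∃ x ∈ Y, σ x ≠ x
  · obtain ⟨x, hx, h21⟩ := h2
    by_cases hm : ∀ y ∈ Y, y ∉ [x, σ x] → σ y = y
    · right; left
      obtain ⟨z, hz, hzn⟩ := exists_notin Y [x, σ x] (by simp; omega)
      obtain ⟨w, hw, hwn⟩ := exists_notin Y [x, σ x, z] (by simp; omega)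
      obtain ⟨u, hu, hun⟩ := exists_notin Y [x, σ x, z, w] (by simp; omega)
      have hwn' : w ∉ [x, σ x] := fun h => hwn (by simp at h ⊢; tauto)
      have hun' : u ∉ [x, σ x] := fun h => hun (by simp at h ⊢; tauto)
      refine ⟨x, hx, z, hz, w, hw, u, hu, hr x hx, hm z hz hzn, hm w hw hwn', hm u hu hun', ?_⟩
      simp only [List.mem_cons, List.not_mem_nil, or_false, not_or] at hzn hwn hun
      simp only [List.nodup_cons, List.mem_cons, List.not_mem_nil, or_false, not_or,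
        not_false_eq_true, List.nodup_nil, and_true]
      exact ⟨⟨h21.symm, fun h => hzn.1 h.symm, fun h => hwn.1 h.symm, fun h => hun.1 h.symm⟩,
        ⟨fun h => hzn.2 h.symm, fun h => hwn.2.1 h.symm, fun h => hun.2.1 h.symm⟩,
        ⟨fun h => hwn.2.2 h.symm, fun h => hun.2.2.1 h.symm⟩, fun h => hun.2.2.2 h.symm⟩
    · left
      obtain ⟨z, hz, hzn, hzm⟩ := exists_move σ Y _ hm
      obtain ⟨w, hw, hwn⟩ := exists_notin Y [x, σ x, z, σ z] (by simp; omega)
      refine ⟨x, hx, z, hz, w, hw, hr x hx, hr z hz, ?_⟩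
      simp only [List.mem_cons, List.not_mem_nil, or_false, not_or] at hzn hwn
      simp only [List.nodup_cons, List.mem_cons, List.not_mem_nil, or_false, not_or, EmbeddingLike.apply_eq_iff_eq,
        not_false_eq_true, List.nodup_nil, and_true]
      refine ⟨⟨h21.symm, fun h => hzn.1 h.symm, fun h => ?_, fun h => hwn.1 h.symm⟩,
        ⟨fun h => hzn.2 h.symm, fun h => hzn.1 h.symm, fun h => hwn.2.1 h.symm⟩,
        ⟨fun h => hzm h.symm, fun h => hwn.2.2.1 h.symm⟩, fun h => hwn.2.2.2 h.symm⟩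
      apply hzn.2
      rw [h, hr z hz]
  · right; right
    push Not at h2
    obtain ⟨x, hx, -⟩ := exists_notin Y [] (by rw [List.length_nil]; omega)
    obtain ⟨y, hy, hyn⟩ := exists_notin Y [x] (by simp; omega)
    obtain ⟨z, hz, hzn⟩ := exists_notin Y [x, y] (by simp; omega)
    obtain ⟨w, hw, hwn⟩ := exists_notin Y [x, y, z] (by simp; omega)
    obtain ⟨u, hu, hun⟩ := exists_notin Y [x, y, z, w] (by simp; omega)
    refine ⟨x, hx, y, hy, z, hz, w, hw, u, hu, h2 x hx, h2 y hy, h2 z hz, h2 w hw, h2 u hu, ?_⟩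
    simp only [List.mem_cons, List.not_mem_nil, or_false, not_or] at hyn hzn hwn hun
    simp only [List.nodup_cons, List.mem_cons, List.not_mem_nil, or_false, not_or,
      not_false_eq_true, List.nodup_nil, and_true]
    exact ⟨⟨fun h => hyn h.symm, fun h => hzn.1 h.symm, fun h => hwn.1 h.symm, fun h => hun.1 h.symm⟩,
      ⟨fun h => hzn.2 h.symm, fun h => hwn.2.1 h.symm, fun h => hun.2.1 h.symm⟩,
      ⟨fun h => hwn.2.2 h.symm, fun h => hun.2.2.1 h.symm⟩, fun h => hun.2.2.2 h.symm⟩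

theorem cyc4 (hc : 6 ≤ Y.card) :
    (∃ x ∈ Y, [x, σ x, σ (σ x), σ (σ (σ x))].Nodup) ∨
    (∃ x ∈ Y, ∃ z ∈ Y, σ (σ (σ x)) = x ∧ [x, σ x, σ (σ x), z].Nodup) ∨
    (∃ x ∈ Y, ∃ z ∈ Y, σ (σ x) = x ∧ σ (σ z) = z ∧ [x, σ x, z, σ z].Nodup) ∨
    (∃ x ∈ Y, ∃ z ∈ Y, ∃ w ∈ Y, σ (σ x) = x ∧ σ z = z ∧ σ w = w ∧ [x, σ x, z, w].Nodup) ∨
    (∃ x ∈ Y, ∃ y ∈ Y, ∃ z ∈ Y, ∃ w ∈ Y, σ x = x ∧ σ y = y ∧ σ z = z ∧ σ w = w ∧ [x, y, z, w].Nodup) := by
  by_cases h5 : ∃ x ∈ Y, [x, σ x, σ (σ x), σ (σ (σ x))].Nodup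
  · exact Or.inl h5
  right
  push Not at h5
  have hp : ∀ x ∈ Y, σ x = x ∨ σ (σ x) = x ∨ σ (σ (σ x)) = x := by
    intro x hx
    by_contra hcon
    push Not at hcon
    obtain ⟨h1, h2, h3⟩ := hcon
    apply h5 x hx
    simp only [List.nodup_cons, List.mem_cons, List.not_mem_nil, or_false, not_or, EmbeddingLike.apply_eq_iff_eq,
      not_false_eq_true, List.nodup_nil, and_true]
    exact ⟨⟨h1.symm, h2.symm, h3.symm⟩, ⟨h1.symm, h2.symm⟩, h1.symm⟩
  have hq : ∀ x ∈ Y, σ (σ x) = x ∨ (σ (σ (σ x)) = x ∧ σ x ≠ x) := by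
    intro x hx
    rcases hp x hx with h | h | h
    · left; rw [h, h]
    · exact Or.inl h
    · by_cases h1 : σ x = x
      · left; rw [h1, h1]
      · exact Or.inr ⟨h, h1⟩
  by_cases h3 : ∃ x ∈ Y, σ (σ (σ x)) = x ∧ σ x ≠ x
  · left
    obtain ⟨x, hx, h31, h32⟩ := h3
    have h2 : σ (σ x) ≠ x := fun h => h32 (by rw [h] at h31; exact h31)
    obtain ⟨z, hz, hzn⟩ := exists_notin Y [x, σ x, σ (σ x)] (by simp; omega)
    refine ⟨x, hx, z, hz, h31, ?_⟩
    simp only [List.mem_cons, List.not_mem_nil, or_false, not_or] at hzn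
    simp only [List.nodup_cons, List.mem_cons, List.not_mem_nil, or_false, not_or, EmbeddingLike.apply_eq_iff_eq,
      not_false_eq_true, List.nodup_nil, and_true]
    exact ⟨⟨h32.symm, h2.symm, fun h => hzn.1 h.symm⟩, ⟨h32.symm, fun h => hzn.2.1 h.symm⟩,
      fun h => hzn.2.2 h.symm⟩
  right
  push Not at h3
  have hr : ∀ x ∈ Y, σ (σ x) = x := by
    intro x hx
    rcases hq x hx with h | ⟨h, h'⟩
    · exact h
    · exact absurd (h3 x hx h) h'
  by_cases h2 : ∃ x ∈ Y, σ x ≠ x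
  · obtain ⟨x, hx, h21⟩ := h2
    by_cases hm : ∀ y ∈ Y, y ∉ [x, σ x] → σ y = y
    · right; left
      obtain ⟨z, hz, hzn⟩ := exists_notin Y [x, σ x] (by simp; omega)
      obtain ⟨w, hw, hwn⟩ := exists_notin Y [x, σ x, z] (by simp; omega)
      have hwn' : w ∉ [x, σ x] := fun h => hwn (by simp at h ⊢; tauto)
      refine ⟨x, hx, z, hz, w, hw, hr x hx, hm z hz hzn, hm w hw hwn', ?_⟩
      simp only [List.mem_cons, List.not_mem_nil, or_false, not_or] at hzn hwn
      simp only [List.nodup_cons, List.mem_cons, List.not_mem_nil, or_false, not_or,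
        not_false_eq_true, List.nodup_nil, and_true]
      exact ⟨⟨h21.symm, fun h => hzn.1 h.symm, fun h => hwn.1 h.symm⟩,
        ⟨fun h => hzn.2 h.symm, fun h => hwn.2.1 h.symm⟩, fun h => hwn.2.2 h.symm⟩
    · left
      obtain ⟨z, hz, hzn, hzm⟩ := exists_move σ Y _ hm
      refine ⟨x, hx, z, hz, hr x hx, hr z hz, ?_⟩
      simp only [List.mem_cons, List.not_mem_nil, or_false, not_or] at hzn
      simp only [List.nodup_cons, List.mem_cons, List.not_mem_nil, or_false, not_or, EmbeddingLike.apply_eq_iff_eq,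
        not_false_eq_true, List.nodup_nil, and_true]
      refine ⟨⟨h21.symm, fun h => hzn.1 h.symm, fun h => ?_⟩,
        ⟨fun h => hzn.2 h.symm, fun h => hzn.1 h.symm⟩, fun h => hzm h.symm⟩
      apply hzn.2
      rw [h, hr z hz]
  · right; right
    push Not at h2
    obtain ⟨x, hx, -⟩ := exists_notin Y [] (by rw [List.length_nil]; omega)
    obtain ⟨y, hy, hyn⟩ := exists_notin Y [x] (by simp; omega)
    obtain ⟨z, hz, hzn⟩ := exists_notin Y [x, y] (by simp; omega)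
    obtain ⟨w, hw, hwn⟩ := exists_notin Y [x, y, z] (by simp; omega)
    refine ⟨x, hx, y, hy, z, hz, w, hw, h2 x hx, h2 y hy, h2 z hz, h2 w hw, ?_⟩
    simp only [List.mem_cons, List.not_mem_nil, or_false, not_or] at hyn hzn hwn
    simp only [List.nodup_cons, List.mem_cons, List.not_mem_nil, or_false, not_or,
      not_false_eq_true, List.nodup_nil, and_true]
    exact ⟨⟨fun h => hyn h.symm, fun h => hzn.1 h.symm, fun h => hwn.1 h.symm⟩,
      ⟨fun h => hzn.2 h.symm, fun h => hwn.2.1 h.symm⟩, fun h => hwn.2.2 h.symm⟩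

theorem cyc3 (hc : 6 ≤ Y.card) :
    (∃ x ∈ Y, [x, σ x, σ (σ x)].Nodup) ∨
    (∃ x ∈ Y, ∃ z ∈ Y, σ (σ x) = x ∧ [x, σ x, z].Nodup) ∨
    (∃ x ∈ Y, ∃ y ∈ Y, ∃ z ∈ Y, σ x = x ∧ σ y = y ∧ σ z = z ∧ [x, y, z].Nodup) := by
  by_cases h5 : ∃ x ∈ Y, [x, σ x, σ (σ x)].Nodup
  · exact Or.inl h5
  right
  push Not at h5
  have hr : ∀ x ∈ Y, σ (σ x) = x := by
    intro x hx
    by_contra hcon
    apply h5 x hx
    have h1 : σ x ≠ x := fun h => hcon (by rw [h, h])
    simp only [List.nodup_cons, List.mem_cons, List.not_mem_nil, or_false, not_or, EmbeddingLike.apply_eq_iff_eq,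
      not_false_eq_true, List.nodup_nil, and_true]
    exact ⟨⟨h1.symm, fun h => hcon h.symm⟩, h1.symm⟩
  by_cases h2 : ∃ x ∈ Y, σ x ≠ x
  · left
    obtain ⟨x, hx, h21⟩ := h2
    obtain ⟨z, hz, hzn⟩ := exists_notin Y [x, σ x] (by simp; omega)
    refine ⟨x, hx, z, hz, hr x hx, ?_⟩
    simp only [List.mem_cons, List.not_mem_nil, or_false, not_or] at hzn
    simp only [List.nodup_cons, List.mem_cons, List.not_mem_nil, or_false, not_or,
      not_false_eq_true, List.nodup_nil, and_true]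
    exact ⟨⟨h21.symm, fun h => hzn.1 h.symm⟩, fun h => hzn.2 h.symm⟩
  · right
    push Not at h2
    obtain ⟨x, hx, -⟩ := exists_notin Y [] (by rw [List.length_nil]; omega)
    obtain ⟨y, hy, hyn⟩ := exists_notin Y [x] (by simp; omega)
    obtain ⟨z, hz, hzn⟩ := exists_notin Y [x, y] (by simp; omega)
    refine ⟨x, hx, y, hy, z, hz, h2 x hx, h2 y hy, h2 z hz, ?_⟩
    simp only [List.mem_cons, List.not_mem_nil, or_false, not_or] at hyn hzn
    simp only [List.nodup_cons, List.mem_cons, List.not_mem_nil, or_false, not_or,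
      not_false_eq_true, List.nodup_nil, and_true]
    exact ⟨⟨fun h => hyn h.symm, fun h => hzn.1 h.symm⟩, fun h => hzn.2 h.symm⟩

end shapes

end Cfsg.Agent.H922.Ore
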