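import Cfsg.Agent.SporadicA.PermTab
import Cfsg.Agent.H922.Ore.Base

/-!
# Groups of automorphisms of a graph: commutators, products of four involutions, class lists by counting (helper922)

A permutation group `Q` is normal in a group `R` of automorphisms of a graph (bit matrix).  For each class of `R` in `Q` a
table `X` with certificates:
* `X` is a commutator and a product of four involutions of `Q` (words);
* a chain of points gives a bound for the order of the centralizer of `X` in the automorphism group;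
* colour counts of `X` and `X²` show that the classes are different.
-/

set_option autoImplicit false

namespace Cfsg.Agent.H922.Ore.Gr

open Cfsg.Agent.SporadicA.PermTab Equiv
open Cfsg.Agent.H922.Ore (Ok)

/-! ### words in tables -/

/-- equality of two words (lists of tables, the first one applied first) -/
def eqv (n : ℕ) (L M : List ℕ) : Bool := allB (fun i => Nat.beq (ev L i) (ev M i)) n

theorem ev_append (L M : List ℕ) (i : ℕ) : ev (L ++ M) i = ev M (ev L i) := by
  induction L generalizing i with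
  | nil => rfl
  | cons P L ih => exact ih _

/-- `g` acts as the word `L` -/
def Acts {n : ℕ} (g : Perm (Fin n)) (L : List ℕ) : Prop := ∀ i : Fin n, (g i : ℕ) = ev L i

theorem Acts.mul {n : ℕ} {g h : Perm (Fin n)} {L M : List ℕ} (hg : Acts g L) (hh : Acts h M) : Acts (g * h) (M ++ L) := by
  intro i
  rw [ev_append, ← hh i, ← hg (h i)]
  rfl

theorem Acts.eq {n : ℕ} {g h : Perm (Fin n)} {L M : List ℕ} (hg : Acts g L) (hh : Acts h M) (e : eqv n L M = true) :
    g = h := by
  apply Equiv.ext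
  intro i
  apply Fin.ext
  rw [hg i, hh i]
  exact Nat.eq_of_beq_eq_true ((allB_iff _ _).1 e i i.2)

theorem Acts.one {n : ℕ} : Acts (1 : Perm (Fin n)) [] := fun _ => rfl

theorem inG_inv {n : ℕ} {G : Subgroup (Perm (Fin n))} {P P' : ℕ} (h : InG G P) (hc : chkInv n P P' = true) :
    InG G P' := by
  obtain ⟨g, hg, hgi⟩ := h
  refine ⟨g⁻¹, G.inv_mem hg, fun i => ?_⟩
  have h1 := hgi (g⁻¹ i)
  have h2 : g (g⁻¹ i) = i := by simp
  rw [h2] at h1
  rw [h1]
  exact ((chkInv_spec hc (g⁻¹ i)).2.2.1).symm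

/-- the data for the commutator and for the four involutions: the words for `a, b, s, t, r` and the tables of `x`, `u` -/
structure Wit where
  X : ℕ
  U : ℕ
  A : List ℕ
  B : List ℕ
  S : List ℕ
  T : List ℕ
  R : List ℕ

/-- the check: `x b a = a b`, `s² = t² = r² = u² = 1`, `x = s t r u` -/
def Wit.chk (n : ℕ) (w : Wit) : Bool :=
  eqv n (w.A ++ (w.B ++ [w.X])) (w.B ++ w.A) && (eqv n (w.S ++ w.S) [] && (eqv n (w.T ++ w.T) [] &&
    (eqv n (w.R ++ w.R) [] && (eqv n [w.U, w.U] [] && (eqv n ([w.U] ++ (w.R ++ (w.T ++ w.S))) [w.X] &&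
      allB (fun i => Nat.blt (lk w.U i) n) n)))))

theorem Wit.ok {n : ℕ} {G : Subgroup (Perm (Fin n))} (w : Wit) (h : w.chk n = true)
    (hm : ∀ P ∈ w.A ++ w.B ++ w.S ++ w.T ++ w.R, InG G P) :
    ∃ x ∈ G, Acts x [w.X] ∧ Ok G x := by
  simp only [Wit.chk, Bool.and_eq_true] at h
  obtain ⟨h1, h2, h3, h4, h5, h6, h7⟩ := h
  simp only [List.mem_append] at hm
  obtain ⟨a, ha, ha'⟩ := exists_ev w.A fun P hP => hm P (by tauto)
  obtain ⟨b, hb, hb'⟩ := exists_ev w.B fun P hP => hm P (by tauto)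
  obtain ⟨s, hs, hs'⟩ := exists_ev w.S fun P hP => hm P (by tauto)
  obtain ⟨t, ht, ht'⟩ := exists_ev w.T fun P hP => hm P (by tauto)
  obtain ⟨r, hr, hr'⟩ := exists_ev w.R fun P hP => hm P (by tauto)
  have hab : Acts (a * b) (w.B ++ w.A) := Acts.mul ha' hb'
  have hba : Acts (b * a) (w.A ++ w.B) := Acts.mul hb' ha'
  -- x
  have hx : Acts (a * b * (b * a)⁻¹) [w.X] := by
    intro i
    have e1 : (b * a) ((b * a)⁻¹ i) = i := by simp
    have e2 := hba ((b * a)⁻¹ i)
    rw [e1] at e2
    have e3 := hab ((b * a)⁻¹ i)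
    have e4 := Nat.eq_of_beq_eq_true ((allB_iff _ _).1 h1 _ ((b * a)⁻¹ i).2)
    rw [← List.append_assoc, ev_append, ← e2] at e4
    rw [e4, ← e3]
    rfl
  refine ⟨_, G.mul_mem (G.mul_mem ha hb) (G.inv_mem (G.mul_mem hb ha)), hx, ⟨⟨a, ha, b, hb, by group⟩, ?_⟩⟩
  set x := a * b * (b * a)⁻¹ with hxd
  have hxG : x ∈ G := G.mul_mem (G.mul_mem ha hb) (G.inv_mem (G.mul_mem hb ha))
  have hu : Acts ((s * t * r)⁻¹ * x) [w.U] := by
    intro i
    have e0 : Acts (s * t * r) (w.R ++ (w.T ++ w.S)) := Acts.mul (Acts.mul hs' ht') hr'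
    have e2 := Nat.eq_of_beq_eq_true ((allB_iff _ _).1 h6 _ i.2)
    have e3 : lk w.U i < n := by
      have := (allB_iff _ _).1 h7 _ i.2
      rwa [Nat.blt_eq] at this
    have e4 : (s * t * r) ⟨lk w.U i, e3⟩ = x i := by
      apply Fin.ext
      rw [e0, hx]
      rw [ev_append] at e2
      exact e2
    have e5 : (s * t * r)⁻¹ (x i) = ⟨lk w.U i, e3⟩ := by
      rw [← e4]
      simp
    show (((s * t * r)⁻¹ (x i) : Fin n) : ℕ) = _
    rw [e5]
    rfl
  refine ⟨s, hs, t, ht, r, hr, (s * t * r)⁻¹ * x, G.mul_mem (G.inv_mem (G.mul_mem (G.mul_mem hs ht) hr)) hxG,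
    Acts.eq (Acts.mul hs' hs') Acts.one h2, Acts.eq (Acts.mul ht' ht') Acts.one h3,
    Acts.eq (Acts.mul hr' hr') Acts.one h4, Acts.eq (Acts.mul hu hu) Acts.one h5, ?_⟩
  group

/-! ### colours -/

/-- the colour of a pair of points -/
def col (n A a b : ℕ) : ℕ := cond (Nat.beq a b) 2 (bitM n A a b)

theorem col_map {n A : ℕ} {g : Perm (Fin n)} (hg : g ∈ autG n A) (i j : Fin n) :
    col n A (g i) (g j) = col n A i j := by
  unfold col
  have h1 := hg i j
  by_cases hij : i = j
  · subst hij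
    rw [show Nat.beq (g i : ℕ) (g i) = true from Nat.beq_refl _, show Nat.beq (i : ℕ) i = true from Nat.beq_refl _]
    rfl
  · have h2 : Nat.beq (i : ℕ) j = false := by
      rw [← Bool.not_eq_true]
      intro h
      exact hij (Fin.ext (Nat.eq_of_beq_eq_true h))
    have h3 : Nat.beq (g i : ℕ) (g j) = false := by
      rw [← Bool.not_eq_true]
      intro h
      exact hij (g.injective (Fin.ext (Nat.eq_of_beq_eq_true h)))
    rw [h2, h3]
    exact h1

/-- the cycles of `y`, `p` under the table `P` have the same colours -/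
def sgB (n A P y p : ℕ) (m : ℕ) : ℕ → ℕ → Bool :=
  Nat.rec (fun _ _ => true) (fun _ ih y' p' => forceB (lk P y') fun y1 => forceB (lk P p') fun p1 =>
    band (Nat.beq (col n A y y1) (col n A p p1)) (ih y1 p1)) m

theorem sgB_succ (n A P y p m y' p' : ℕ) : sgB n A P y p (m + 1) y' p' =
    band (Nat.beq (col n A y (lk P y')) (col n A p (lk P p'))) (sgB n A P y p m (lk P y') (lk P p')) := by
  have h : sgB n A P y p (m + 1) y' p' = forceB (lk P y') fun y1 => forceB (lk P p') fun p1 =>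
      band (Nat.beq (col n A y y1) (col n A p p1)) (sgB n A P y p m y1 p1) := rfl
  rw [h, forceB_eq, forceB_eq]

/-- the colours of `(y, f)` and `(p, f)` agree for `f` in the list -/
def fB (n A y p : ℕ) (F : List ℕ) : Bool :=
  List.rec true (fun f _ ih => band (Nat.beq (col n A y f) (col n A p f)) ih) F

theorem fB_cons (n A y p f : ℕ) (F : List ℕ) : fB n A y p (f :: F) =
    band (Nat.beq (col n A y f) (col n A p f)) (fB n A y p F) := rfl

/-- the list `F` tells all points apart -/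
def resB (n A : ℕ) (F : List ℕ) : Bool :=
  allB (fun y => allB (fun z => cond (fB n A y z F) false true) y) n

/-- add `k` points of the cycle of `q` to the list -/
def extB (P : ℕ) (k : ℕ) : ℕ → List ℕ → (List ℕ → Bool) → Bool :=
  Nat.rec (fun _ F K => K F) (fun _ ih q F K => forceB (lk P q) fun q' => ih q' (q' :: F) K) k

/-- the same as a list -/
def ext (P : ℕ) : ℕ → ℕ → List ℕ → List ℕ
  | 0, _, F => F
  | k + 1, q, F => ext P k (lk P q) (lk P q :: F)

theorem extB_eq (P k q : ℕ) (F : List ℕ) (K : List ℕ → Bool) : extB P k q F K = K (ext P k q F) := by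
  induction k generalizing q F with
  | zero => rfl
  | succ k ih =>
    have h : extB P (k + 1) q F K = forceB (lk P q) fun q' => extB P k q' (q' :: F) K := rfl
    rw [h, forceB_eq]
    exact ih _ _

/-- the chain check -/
def chC (n A P m k : ℕ) : List (ℕ × ℕ) → List ℕ → Bool
  | [], F => resB n A F
  | pc :: L, F => band (Nat.blt pc.1 n) (band
      (cntB (fun y => band (sgB n A P y pc.1 m y pc.1) (fB n A y pc.1 F)) n pc.2)
      (extB P k pc.1 (pc.1 :: F) (chC n A P m k L)))

/-- the bound -/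
def bnd (L : List (ℕ × ℕ)) : ℕ := L.foldr (fun pc a => pc.2 * a) 1

section chain

variable {n A P : ℕ} {x : Perm (Fin n)} {C : Subgroup (Perm (Fin n))}

theorem sgB_of (hx : Acts x [P]) (hC : C ≤ autG n A) (hc : ∀ c ∈ C, ∀ i, c (x i) = x (c i)) {c : Perm (Fin n)}
    (hcC : c ∈ C) (p : Fin n) (m : ℕ) (p' : Fin n) :
    sgB n A P (c p) p m (c p') p' = true := by
  induction m generalizing p' with
  | zero => rfl
  | succ m ih =>
    rw [sgB_succ, band_eq_true]
    have e1 : lk P (p' : ℕ) = (x p' : ℕ) := (hx p').symm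
    have e2 : lk P (c p' : ℕ) = (c (x p') : ℕ) := by
      rw [hc c hcC]
      exact (hx (c p')).symm
    rw [e1, e2]
    refine ⟨?_, ih (x p')⟩
    rw [col_map (hC hcC)]
    exact Nat.beq_refl _

theorem fB_of (hC : C ≤ autG n A) {c : Perm (Fin n)} (hcC : c ∈ C) (p : Fin n) (F : List ℕ)
    (hF : ∀ f ∈ F, ∃ h : f < n, c ⟨f, h⟩ = ⟨f, h⟩) : fB n A (c p) p F = true := by
  induction F with
  | nil => rfl
  | cons f F ih =>
    rw [fB_cons, band_eq_true]
    refine ⟨?_, ih fun g hg => hF g (List.mem_cons_of_mem _ hg)⟩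
    obtain ⟨h, hf⟩ := hF f List.mem_cons_self
    have h1 := col_map (hC hcC) p ⟨f, h⟩
    rw [hf] at h1
    have h2 : col n A (c p) f = col n A p f := h1
    rw [h2]
    exact Nat.beq_refl _

theorem fix_ext (hx : Acts x [P]) {c : Perm (Fin n)} (hc : ∀ i, c (x i) = x (c i)) (k : ℕ) (q : Fin n) (hq : c q = q)
    (F : List ℕ) (hF : ∀ f ∈ F, ∃ h : f < n, c ⟨f, h⟩ = ⟨f, h⟩) :
    ∀ f ∈ ext P k q F, ∃ h : f < n, c ⟨f, h⟩ = ⟨f, h⟩ := by
  induction k generalizing q F with
  | zero => exact hF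
  | succ k ih =>
    have e1 : lk P (q : ℕ) = (x q : ℕ) := (hx q).symm
    intro f hf
    rw [ext, e1] at hf
    refine ih (x q) (by rw [hc, hq]) _ ?_ f hf
    intro g hg
    rcases List.mem_cons.1 hg with rfl | hg
    · exact ⟨(x q).2, by rw [Fin.eta, hc, hq]⟩
    · exact hF g hg

theorem card_le_of_chC [NeZero n] (hx : Acts x [P]) (m k : ℕ) (L : List (ℕ × ℕ)) :
    ∀ (C : Subgroup (Perm (Fin n))) (F : List ℕ), C ≤ autG n A → (∀ c ∈ C, ∀ i, c (x i) = x (c i)) →
      (∀ c ∈ C, ∀ f ∈ F, ∃ h : f < n, c ⟨f, h⟩ = ⟨f, h⟩) → chC n A P m k L F = true → Nat.card C ≤ bnd L := by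
  induction L with
  | nil =>
    intro C F hC hc hF h
    have h1 : C = ⊥ := by
      rw [eq_bot_iff]
      intro c hcC
      rw [Subgroup.mem_bot]
      apply Equiv.ext
      intro i
      have h2 := fB_of hC hcC i F (hF c hcC)
      have h3 := fB_of hC (C.inv_mem hcC) (c i) F (hF _ (C.inv_mem hcC))
      have h4 : c⁻¹ (c i) = i := by simp
      rw [h4] at h3
      apply Fin.ext
      by_contra hne
      change resB n A F = true at h
      rcases Nat.lt_or_gt_of_ne hne with hlt | hlt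
      · have h5 := (allB_iff _ _).1 ((allB_iff _ _).1 h i i.2) (c i) hlt
        rw [h3] at h5
        exact absurd h5 (by simp)
      · have h5 := (allB_iff _ _).1 ((allB_iff _ _).1 h (c i) (c i).2) i hlt
        rw [h2] at h5
        exact absurd h5 (by simp)
    rw [h1]
    simp [bnd]
  | cons pc L ih =>
    intro C F hC hc hF h
    rw [chC, band_eq_true, band_eq_true, extB_eq] at h
    obtain ⟨h1, h2, h3⟩ := h
    have hp : pc.1 < n := by rwa [Nat.blt_eq] at h1
    set p : Fin n := ⟨pc.1, hp⟩ with hpd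
    refine card_le C p _ ?_ (card_fin_of_cntB _ n pc.2 h2) ?_
    · intro g hg
      rw [Finset.mem_filter]
      refine ⟨Finset.mem_univ _, ?_⟩
      rw [band_eq_true]
      exact ⟨sgB_of hx hC hc hg p m p, fB_of hC hg p F (hF g hg)⟩
    · refine ih (ps C p) _ ((ps_le C p).trans hC) (fun c hcp => hc c hcp.1) (fun c hcp => ?_) h3
      refine fix_ext hx (hc c hcp.1) k p hcp.2 _ ?_
      intro g hg
      rcases List.mem_cons.1 hg with rfl | hg
      · exact ⟨hp, hcp.2⟩
      · exact hF c hcp.1 g hg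

end chain

/-! ### invariants of classes -/

/-- the numbers of points `i` with the given colour of `(i, g i)`, `(i, g (g i))` -/
noncomputable def inv1 {n : ℕ} (A : ℕ) (g : Perm (Fin n)) (c : ℕ) : ℕ :=
  ((Finset.univ : Finset (Fin n)).filter fun i : Fin n => col n A i (g i) = c).card

theorem inv1_conj {n A : ℕ} {g h c : Perm (Fin n)} (hc : c ∈ autG n A) (e : c * g = h * c) (k : ℕ) :
    inv1 A g k = inv1 A h k := by
  unfold inv1
  refine Finset.card_bij (fun i _ => c i) ?_ (fun i _ j _ hij => c.injective hij) ?_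
  · intro i hi
    rw [Finset.mem_filter] at hi ⊢
    refine ⟨Finset.mem_univ _, ?_⟩
    have h1 : h (c i) = c (g i) := by
      rw [← Perm.mul_apply, ← e, Perm.mul_apply]
    rw [h1, col_map hc]
    exact hi.2
  · intro j hj
    rw [Finset.mem_filter] at hj
    refine ⟨c⁻¹ j, ?_, by simp⟩
    rw [Finset.mem_filter]
    refine ⟨Finset.mem_univ _, ?_⟩
    have h1 : h (c (c⁻¹ j)) = c (g (c⁻¹ j)) := by
      rw [← Perm.mul_apply, ← e, Perm.mul_apply]
    have h2 : c (c⁻¹ j) = j := by simp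
    rw [← col_map hc, ← h1, h2]
    exact hj.2

/-- the counts for a table -/
def cnt1 (n A P v2 v1 w2 w1 : ℕ) : Bool :=
  cntB (fun i => Nat.beq (col n A i (lk P i)) 2) n v2 && (cntB (fun i => Nat.beq (col n A i (lk P i)) 1) n v1 &&
    (cntB (fun i => Nat.beq (col n A i (lk P (lk P i))) 2) n w2 &&
      cntB (fun i => Nat.beq (col n A i (lk P (lk P i))) 1) n w1))

/-- all four invariants -/
noncomputable def inv4v {n : ℕ} (A : ℕ) (g : Perm (Fin n)) : List ℕ :=
  [inv1 A g 2, inv1 A g 1, inv1 A (g * g) 2, inv1 A (g * g) 1]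

theorem inv4v_conj {n A : ℕ} {g h c : Perm (Fin n)} (hc : c ∈ autG n A) (e : c * g = h * c) :
    inv4v A g = inv4v A h := by
  have e2 : c * (g * g) = (h * h) * c := by
    rw [← mul_assoc, e, mul_assoc, e, mul_assoc]
  unfold inv4v
  rw [inv1_conj hc e, inv1_conj hc e, inv1_conj hc e2, inv1_conj hc e2]

theorem inv1_of {n A P v k : ℕ} {g : Perm (Fin n)} (hg : Acts g [P])
    (h : cntB (fun i => Nat.beq (col n A i (lk P i)) k) n v = true) : inv1 A g k = v := by
  rw [← card_fin_of_cntB _ n v h]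
  unfold inv1
  congr 1
  apply Finset.filter_congr
  intro i _
  have h1 : (g i : ℕ) = lk P i := hg i
  rw [h1]
  exact ⟨fun h => by rw [h]; exact Nat.beq_refl _, Nat.eq_of_beq_eq_true⟩

theorem inv1_sq_of {n A P v k : ℕ} {g : Perm (Fin n)} (hg : Acts g [P])
    (h : cntB (fun i => Nat.beq (col n A i (lk P (lk P i))) k) n v = true) : inv1 A (g * g) k = v := by
  rw [← card_fin_of_cntB _ n v h]
  unfold inv1
  congr 1
  apply Finset.filter_congr
  intro i _
  have h1 : ((g * g) i : ℕ) = lk P (lk P i) := Acts.mul hg hg i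
  rw [h1]
  exact ⟨fun h => by rw [h]; exact Nat.beq_refl _, Nat.eq_of_beq_eq_true⟩

theorem inv4v_of {n A P v2 v1 w2 w1 : ℕ} {g : Perm (Fin n)} (hg : Acts g [P]) (h : cnt1 n A P v2 v1 w2 w1 = true) :
    inv4v A g = [v2, v1, w2, w1] := by
  simp only [cnt1, Bool.and_eq_true] at h
  obtain ⟨h1, h2, h3, h4⟩ := h
  unfold inv4v
  rw [inv1_of hg h1, inv1_of hg h2, inv1_sq_of hg h3, inv1_sq_of hg h4]

/-! ### classes by counting -/

section classes

variable {G : Type*} [Group G] [Finite G]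

omit [Finite G] in
theorem card_class (x : G) :
    Nat.card {y : G // IsConj x y} * Nat.card ↥(Subgroup.centralizer ({x} : Set G)) = Nat.card G := by
  have h1 : Nat.card {y : G // IsConj x y} = Nat.card (MulAction.orbit (ConjAct G) x) := by
    refine Nat.card_congr (Equiv.subtypeEquivRight fun y => ?_)
    rw [ConjAct.mem_orbit_conjAct]
    exact ⟨fun h => h.symm, fun h => h.symm⟩
  have h2 : Nat.card ↥(Subgroup.centralizer ({x} : Set G)) = Nat.card (MulAction.stabilizer (ConjAct G) x) := by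
    rw [ConjAct.stabilizer_eq_centralizer]
    rfl
  have h3 := Nat.card_congr (MulAction.orbitProdStabilizerEquivGroup (ConjAct G) x)
  rw [Nat.card_prod] at h3
  rw [h1, h2, h3]
  rfl

/-- **The class list criterion** for a normal subgroup. -/
theorem complete (N : Subgroup G) [N.Normal] {ι : Type} [Fintype ι] (x : ι → G) (c : ι → ℕ) (hN : ∀ i, x i ∈ N)
    (hc : ∀ i, Nat.card ↥(Subgroup.centralizer ({x i} : Set G)) ≤ c i) (hd : ∀ i j, IsConj (x i) (x j) → i = j)
    (hs : Nat.card N ≤ ∑ i, Nat.card G / c i) (g : G) (hg : g ∈ N) : ∃ i, IsConj (x i) g := by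
  classical
  have hmem : ∀ i (y : G), IsConj (x i) y → y ∈ N := by
    intro i y h
    obtain ⟨k, rfl⟩ := isConj_iff.1 h
    exact Subgroup.Normal.conj_mem inferInstance _ (hN i) k
  let f : (Σ i : ι, {y : G // IsConj (x i) y}) → N := fun s => ⟨s.2.1, hmem s.1 _ s.2.2⟩
  have hf : Function.Injective f := by
    rintro ⟨i, y, hy⟩ ⟨j, z, hz⟩ h
    have h1 : y = z := congrArg Subtype.val h
    subst h1
    have h2 := hd i j (hy.trans hz.symm)
    subst h2
    rfl
  have hcard : Nat.card N ≤ Nat.card (Σ i : ι, {y : G // IsConj (x i) y}) := by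
    rw [Nat.card_sigma]
    refine hs.trans (Finset.sum_le_sum fun i _ => ?_)
    have h5 : 0 < c i := lt_of_lt_of_le Nat.card_pos (hc i)
    apply Nat.div_le_of_le_mul
    rw [← card_class (x i), mul_comm (c i)]
    exact Nat.mul_le_mul_left _ (hc i)
  obtain ⟨⟨i, y, hy⟩, h⟩ := (hf.bijective_of_nat_card_le hcard).2 ⟨g, hg⟩
  refine ⟨i, ?_⟩
  have h1 : y = g := congrArg Subtype.val h
  rw [← h1]
  exact hy

end classes

/-! ### all together -/

/-- the data of a class -/
structure Cls extends Wit where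
  /-- chain -/
  L : List (ℕ × ℕ)
  /-- number of powers in the signatures, order -/
  m : ℕ
  k : ℕ
  /-- invariants -/
  I : List ℕ

/-- the check -/
def Cls.chk (n A : ℕ) (r : Cls) : Bool :=
  r.toWit.chk n && (chC n A r.X r.m r.k r.L [] &&
    match r.I with
    | [v2, v1, w2, w1] => cnt1 n A r.X v2 v1 w2 w1
    | _ => false)

theorem ok_all {n A : ℕ} [NeZero n] {Q R : Subgroup (Perm (Fin n))} (hQR : Q ≤ R) (hRA : R ≤ autG n A)
    (hnorm : ∀ r ∈ R, ∀ q ∈ Q, r * q * r⁻¹ ∈ Q) {ι : Type} [Fintype ι] (D : ι → Cls)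
    (hD : ∀ i, (D i).chk n A = true) (hmem : ∀ i, ∀ P ∈ (D i).A ++ (D i).B ++ (D i).S ++ (D i).T ++ (D i).R, InG Q P)
    (hI : Function.Injective fun i => (D i).I) (hs : Nat.card Q ≤ ∑ i, Nat.card R / bnd (D i).L) :
    ∀ g ∈ Q, Ok Q g := by
  classical
  have h0 : ∀ i, ∃ x ∈ Q, Acts x [(D i).X] ∧ Ok Q x := by
    intro i
    have h := hD i
    simp only [Cls.chk, Bool.and_eq_true] at h
    exact Wit.ok (D i).toWit h.1 (hmem i)
  choose x hxQ hxA hxO using h0
  have : (Q.subgroupOf R).Normal := by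
    refine ⟨fun q hq r => ?_⟩
    rw [Subgroup.mem_subgroupOf] at hq ⊢
    exact hnorm r r.2 q hq
  intro g hg
  have hcard : Nat.card (Q.subgroupOf R) = Nat.card Q := Nat.card_congr (Subgroup.subgroupOfEquivOfLe hQR).toEquiv
  obtain ⟨i, hi⟩ := complete (Q.subgroupOf R) (fun i => (⟨x i, hQR (hxQ i)⟩ : R)) (fun i => bnd (D i).L)
    (fun i => hxQ i) (by
      intro i
      have h := hD i
      simp only [Cls.chk, Bool.and_eq_true] at h
      -- the centralizer as a subgroup of `Perm`
      have e : Nat.card ↥(Subgroup.centralizer ({(⟨x i, hQR (hxQ i)⟩ : R)} : Set R)) =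
          Nat.card ↥((Subgroup.centralizer ({(⟨x i, hQR (hxQ i)⟩ : R)} : Set R)).map R.subtype) :=
        Nat.card_congr (Subgroup.equivMapOfInjective _ _ R.subtype_injective).toEquiv
      rw [e]
      refine card_le_of_chC (hxA i) (D i).m (D i).k (D i).L _ [] ?_ ?_ ?_ h.2.1
      · rintro _ ⟨c, -, rfl⟩
        exact hRA c.2
      · rintro _ ⟨c, hc, rfl⟩ j
        have hc' := Subgroup.mem_centralizer_singleton_iff.1 hc
        have h1 := congrArg (fun z : R => (z : Perm (Fin n)) j) hc'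
        exact h1
      · intro c _ f hf
        exact absurd hf List.not_mem_nil) (by
      intro i j hij
      obtain ⟨c, hc⟩ := isConj_iff.1 hij
      have h1 : (c : Perm (Fin n)) * x i * (c : Perm (Fin n))⁻¹ = x j := congrArg Subtype.val hc
      have h2 : (c : Perm (Fin n)) * x i = x j * c := by rw [← h1]; group
      have h3 := inv4v_conj (hRA c.2) h2
      have key : ∀ i, inv4v A (x i) = (D i).I := by
        intro i
        have h := hD i
        simp only [Cls.chk, Bool.and_eq_true] at h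
        obtain ⟨-, -, h4⟩ := h
        split at h4
        · next v2 v1 w2 w1 he =>
          rw [he]
          exact inv4v_of (hxA i) h4
        · exact absurd h4 (by simp)
      rw [key, key] at h3
      exact hI h3) (by rw [hcard]; exact hs) ⟨g, hQR hg⟩ hg
  obtain ⟨c, hc⟩ := isConj_iff.1 hi
  have h1 : (c : Perm (Fin n)) * x i * (c : Perm (Fin n))⁻¹ = g := congrArg Subtype.val hc
  -- transfer
  obtain ⟨⟨a, ha, b, hb, h2⟩, ⟨s, hs', t, ht, u, hu, v, hv, h3, h4, h5, h6, h7⟩⟩ := hxO i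
  have hm := hnorm c c.2
  have key : ∀ x y : Perm (Fin n), ((c : Perm (Fin n)) * x * (c : Perm (Fin n))⁻¹) *
      ((c : Perm (Fin n)) * y * (c : Perm (Fin n))⁻¹) = (c : Perm (Fin n)) * (x * y) * (c : Perm (Fin n))⁻¹ := by
    intro x y
    group
  have k1 : ∀ x : Perm (Fin n), x * x = 1 → ((c : Perm (Fin n)) * x * (c : Perm (Fin n))⁻¹) *
      ((c : Perm (Fin n)) * x * (c : Perm (Fin n))⁻¹) = 1 := by
    intro x hx
    rw [key, hx, mul_one, mul_inv_cancel]
  refine ⟨⟨_, hm a ha, _, hm b hb, ?_⟩, ⟨_, hm s hs', _, hm t ht, _, hm u hu, _, hm v hv, k1 s h3, k1 t h4, k1 u h5,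
    k1 v h6, ?_⟩⟩
  · rw [← h1, key, key, key, h2]
  · rw [← h1, key, key, key, h7]

end Cfsg.Agent.H922.Ore.Gr
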