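import Cfsg.Agent.H922.Ore.HSData

/-!
# The classes of `HS`: checks (helper922)
-/

set_option autoImplicit false

namespace Cfsg.Agent.H922.Ore.HS

open Cfsg.Agent.HN.HS100 (tX tY tYi tW tZ adjA)
open Cfsg.Agent.H922.Ore.Gr

theorem chk0 : d0.chk 100 adjA = true := by decide +kernel
theorem chk1 : d1.chk 100 adjA = true := by decide +kernel
theorem chk2 : d2.chk 100 adjA = true := by decide +kernel
theorem chk3 : d3.chk 100 adjA = true := by decide +kernel
theorem chk4 : d4.chk 100 adjA = true := by decide +kernel
theorem chk5 : d5.chk 100 adjA = true := by decide +kernel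
theorem chk6 : d6.chk 100 adjA = true := by decide +kernel
theorem chk7 : d7.chk 100 adjA = true := by decide +kernel
theorem chk8 : d8.chk 100 adjA = true := by decide +kernel
theorem chk9 : d9.chk 100 adjA = true := by decide +kernel
theorem chk10 : d10.chk 100 adjA = true := by decide +kernel
theorem chk11 : d11.chk 100 adjA = true := by decide +kernel
theorem chk12 : d12.chk 100 adjA = true := by decide +kernel
theorem chk13 : d13.chk 100 adjA = true := by decide +kernel
theorem chk14 : d14.chk 100 adjA = true := by decide +kernel
theorem chk15 : d15.chk 100 adjA = true := by decide +kernel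
theorem chk16 : d16.chk 100 adjA = true := by decide +kernel
theorem chk17 : d17.chk 100 adjA = true := by decide +kernel
theorem chk18 : d18.chk 100 adjA = true := by decide +kernel
theorem chk19 : d19.chk 100 adjA = true := by decide +kernel
theorem chk20 : d20.chk 100 adjA = true := by decide +kernel

theorem chk_all : ∀ i, (D i).chk 100 adjA = true := by
  intro i
  fin_cases i
  · exact chk0
  · exact chk1
  · exact chk2
  · exact chk3
  · exact chk4
  · exact chk5
  · exact chk6
  · exact chk7
  · exact chk8
  · exact chk9
  · exact chk10
  · exact chk11
  · exact chk12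
  · exact chk13
  · exact chk14
  · exact chk15
  · exact chk16
  · exact chk17
  · exact chk18
  · exact chk19
  · exact chk20

end Cfsg.Agent.H922.Ore.HS
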